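import Groth.Agent.Lib.LocConst24.SecTriv
import Groth.Agent.Lib.EtStalk.Pull
import Groth.Agent.Lib.EtStalk.FiniteStalk
import Mathlib.CategoryTheory.Sites.LocallyBijective

/-!
# The germ criterion for finite locally constant sheaves, and operations
-/

universe u

set_option maxHeartbeats 400000

open CategoryTheory CategoryTheory.Limits AlgebraicGeometry Opposite
open scoped ZeroObject
open Groth.Agent.EtSite Groth.Agent.EtStalk

namespace Groth.Agent.LocConst24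

variable {X : Scheme.{u}} {F : EtCoh.Ab X}

theorem bijAt_rho {U : X.Etale} {M : Type} [AddCommGroup M] (θ : Triv F U M) :
    BijAt F ((rho θ (𝟙 U)).comp AddEquiv.ulift.symm.toAddMonoidHom) := by
  intro Ω _ _ ξ x
  constructor
  · intro m n e
    obtain ⟨V, g, y, -, he⟩ := (germ_eq_iff ξ F x _ _).1 e
    have he' : rho θ (g ≫ 𝟙 U) (ULift.up m) = rho θ (g ≫ 𝟙 U) (ULift.up n) :=
      ((rho_res θ g (𝟙 U) _).symm.trans he).trans (rho_res θ g (𝟙 U) _)
    exact congrArg ULift.down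
      (rho_injective θ (g ≫ 𝟙 U) ⟨y.left (default : Spec (CommRingCat.of Ω))⟩ he')
  · intro q
    obtain ⟨V, x', s, hs⟩ := germ_surjective ξ F q
    obtain ⟨W, z, a, b, ha, hb⟩ := exists_common_fib ξ x x'
    let R : Sieve W :=
      { arrows := fun Z' c => ∃ m, rho θ (c ≫ a) m = F.obj.map c.op (F.obj.map b.op s)
        downward_closed := by
          rintro Z' Z'' c ⟨m, hm⟩ d
          refine ⟨m, ?_⟩
          rw [Category.assoc, ← rho_res, hm, op_comp, F.obj.map_comp, ConcreteCategory.comp_apply] }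
    have hR : R ∈ X.smallEtaleTopology W := by
      rw [mem_et_iff]
      intro w
      obtain ⟨Z', c, ⟨z', hz'⟩, m, hm⟩ := exists_rho θ a (F.obj.map b.op s) w
      exact ⟨Z', c, z', ⟨m, hm⟩, hz'⟩
    obtain ⟨Z', c, ⟨m, hm⟩, z', hz'⟩ := (Scheme.pointSmallEtale ξ).jointly_surjective R hR z
    refine ⟨m.down, ?_⟩
    show germ ξ F x (rho θ (𝟙 U) m) = q
    rw [← hs, ← hb, ← ha, ← germ_map, ← germ_map, ← hz', ← germ_map, ← germ_map, rho_res, rho_res,
      Category.comp_id, hm]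

theorem loc_of_flc (h : EtCoh.IsFiniteLocallyConstant F) : Loc F := by
  intro x
  obtain ⟨ι, U, hU, h⟩ := h
  obtain ⟨i, y, hy⟩ := hU x
  obtain ⟨M, _, hM, ⟨θ⟩⟩ := h i
  exact ⟨U i, y, hy, M, inferInstance, hM, _, bijAt_rho θ⟩

theorem nonempty_triv_of_alg {U : X.Etale} {M : Type} [AddCommGroup M]
    {σ : M →+ F.obj.obj (op U)}
    (hσ : ∀ (Ω : Type u) [Field Ω] [IsAlgClosed Ω] (ξ : Spec (CommRingCat.of Ω) ⟶ X) (x : fib ξ U),
      Function.Bijective fun m => germ ξ F x (σ m)) :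
    Nonempty (Triv F U M) := by
  have hres : ∀ {V : X.Etale} (g : V ⟶ U) (Ω : Type u) [Field Ω] [IsAlgClosed Ω]
      (ξ : Spec (CommRingCat.of Ω) ⟶ X) (y : fib ξ V),
      Function.Bijective fun m => germ ξ F y (resSec g σ m) := fun g Ω _ _ ξ y => by
    simp only [germ_resSec]
    exact hσ Ω ξ _
  let J := X.smallEtaleTopology.over U
  let P : (Over U)ᵒᵖ ⥤ AddCommGrpCat.{u + 1} :=
    (Functor.const (Over U)ᵒᵖ).obj (AddCommGrpCat.of (ULift.{u + 1} M))
  let G := EtCoh.restr F U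
  let ψ : P ⟶ G.obj :=
    { app := fun O => AddCommGrpCat.ofHom ((resSec O.unop.hom σ).comp AddEquiv.ulift.toAddMonoidHom)
      naturality := fun O O' f => AddCommGrpCat.ext fun m => by
        show F.obj.map O'.unop.hom.op (σ m.down) =
          F.obj.map f.unop.left.op (F.obj.map O.unop.hom.op (σ m.down))
        rw [← ConcreteCategory.comp_apply, ← F.obj.map_comp, ← op_comp, Over.w] }
  haveI : Presheaf.IsLocallyInjective J ψ := by
    refine ⟨fun {O} m n e => ?_⟩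
    rw [GrothendieckTopology.mem_over_iff, mem_et_iff]
    intro z
    obtain ⟨Ω, _, _, ξ, x, -⟩ := exists_algFib O.unop.left z
    have hmn : m = n := AddEquiv.ulift.injective
      ((hres O.unop.hom Ω ξ x).1 (congrArg (germ ξ F x) e))
    exact ⟨_, 𝟙 _, z, ⟨O.unop, 𝟙 _, 𝟙 _, hmn, (Category.id_comp _).symm⟩, rfl⟩
  haveI : Presheaf.IsLocallySurjective J ψ := by
    refine ⟨fun {O} s => ?_⟩
    rw [GrothendieckTopology.mem_over_iff, mem_et_iff]
    intro z
    obtain ⟨Ω, _, _, ξ, x, hx⟩ := exists_algFib O.left z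
    obtain ⟨m, hm⟩ := (hres O.hom Ω ξ x).2 (germ _ F x s)
    obtain ⟨V, g, y, hy, he⟩ := (germ_eq_iff _ F x _ _).1 hm
    refine ⟨V, g, fibPt y, ⟨Over.mk (g ≫ O.hom), Over.homMk g, 𝟙 _,
      ⟨ULift.up m, ?_⟩, (Category.id_comp _).symm⟩, ?_⟩
    · show F.obj.map (g ≫ O.hom).op (σ m) = F.obj.map g.op s
      exact Eq.trans (by rw [op_comp, F.obj.map_comp, ConcreteCategory.comp_apply]; rfl) he
    · exact (congrArg fibPt hy).trans hx
  let k : (constantSheaf J AddCommGrpCat.{u + 1}).obj (AddCommGrpCat.of (ULift.{u + 1} M)) ⟶ G :=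
    ⟨sheafifyLift J ψ G.property⟩
  have hk : toSheafify J P ≫ k.hom = ψ := toSheafify_sheafifyLift J _ G.property
  haveI : Sheaf.IsLocallyInjective k := by
    show Presheaf.IsLocallyInjective J k.hom
    have hh : Presheaf.IsLocallyInjective J (toSheafify J P ≫ k.hom) := by rw [hk]; infer_instance
    exact (Presheaf.comp_isLocallyInjective_iff J (toSheafify J P) k.hom).1 hh
  haveI : Sheaf.IsLocallySurjective k := by
    show Presheaf.IsLocallySurjective J k.hom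
    have hh : Presheaf.IsLocallySurjective J (toSheafify J P ≫ k.hom) := by rw [hk]; infer_instance
    exact (Presheaf.comp_isLocallySurjective_iff J (toSheafify J P) k.hom).1 hh
  haveI : IsIso k := (Sheaf.isLocallyBijective_iff_isIso k).mp ⟨inferInstance, inferInstance⟩
  exact ⟨(asIso k).symm⟩

theorem nonempty_triv {U : X.Etale} {M : Type} [AddCommGroup M]
    {σ : M →+ F.obj.obj (op U)} (hσ : BijAt F σ) : Nonempty (Triv F U M) :=
  nonempty_triv_of_alg fun Ω _ _ ξ x => hσ Ω ξ x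

theorem flc_of_loc (h : Loc F) : EtCoh.IsFiniteLocallyConstant F := by
  choose U y hy M hM hfin σ hσ using h
  exact ⟨X, U, fun x => ⟨x, y x, hy x⟩, fun x => ⟨M x, hM x, hfin x, nonempty_triv (hσ x)⟩⟩

theorem flc_iff_loc : EtCoh.IsFiniteLocallyConstant F ↔ Loc F := ⟨loc_of_flc, flc_of_loc⟩

theorem loc_of_isZero (h : IsZero F) : Loc F := by
  intro x
  refine ⟨EtCoh.top X, x, rfl, PUnit, inferInstance, inferInstance, 0, fun Ω _ _ ξ z => ?_⟩
  haveI := AddCommGrpCat.subsingleton_of_isZero ((isZero_iff_stalk F).1 h Ω ξ)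
  exact ⟨fun a b _ => Subsingleton.elim a b, fun q => ⟨default, Subsingleton.elim _ _⟩⟩

theorem Loc.of_iso {G : EtCoh.Ab X} (e : F ≅ G) (h : Loc F) : Loc G := by
  intro x
  obtain ⟨U, u', hu, M, _, hM, σ, hσ⟩ := h x
  refine ⟨U, u', hu, M, inferInstance, hM, (e.hom.hom.app (op U)).hom.comp σ, fun Ω _ _ ξ z => ?_⟩
  have hb := (isIso_iff_stalk e.hom).1 inferInstance Ω ξ
  have h2 := hb.comp (hσ Ω ξ z)
  convert h2 using 1
  funext m
  exact (germ_nat ξ e.hom z (σ m)).symm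

variable {Y : Scheme.{u}} (f : X ⟶ Y) {G : EtCoh.Ab Y}

theorem Loc.pull (h : Loc G) : Loc ((EtCoh.pull f).obj G) := by
  intro x
  obtain ⟨U, u', hu, M, _, hM, σ, hσ⟩ := h (f x)
  obtain ⟨w, -, hw⟩ := Scheme.Pullback.exists_preimage_pullback (f := U.hom) (g := f) u' x hu
  refine ⟨(EtCoh.bc f).obj U, w, hw, M, inferInstance, hM,
    (((EtCoh.pullPushAdj f).unit.app G).hom.app (op U)).hom.comp σ, fun Ω _ _ ξ z => ?_⟩
  have hz : liftFib f ξ (dropFib f ξ z) = z := by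
    refine Over.OverMorphism.ext (pullback.hom_ext ?_ ?_)
    · exact pullback.lift_fst _ _ _
    · exact (pullback.lift_snd _ _ _).trans (Over.w z).symm
  have h2 := (ConcreteCategory.bijective_of_isIso (stalkPull f ξ G)).comp
    (hσ Ω (ξ ≫ f) (dropFib f ξ z))
  convert h2 using 1
  funext m
  refine Eq.trans ?_ (germ_stalkPull f ξ G (dropFib f ξ z) (σ m)).symm
  rw [hz]
  rfl

theorem flc_pull (h : EtCoh.IsFiniteLocallyConstant G) :
    EtCoh.IsFiniteLocallyConstant ((EtCoh.pull f).obj G) :=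
  flc_of_loc ((loc_of_flc h).pull f)

/-- Stalkwise exactness of a short complex, on elements. -/
theorem function_exact_stalk {S : ShortComplex (EtCoh.Ab X)} (h : S.Exact) (Ω : Type u) [Field Ω]
    [IsSepClosed Ω] (ξ : Spec (CommRingCat.of Ω) ⟶ X) :
    Function.Exact ((EtCoh.stalk ξ).map S.f) ((EtCoh.stalk ξ).map S.g) :=
  (ShortComplex.ab_exact_iff_function_exact _).1 ((exact_iff_stalk S).1 h Ω ξ)

theorem flc_kernel {A B : EtCoh.Ab X} (φ : A ⟶ B) (hA : EtCoh.IsFiniteLocallyConstant A)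
    (hB : EtCoh.IsFiniteLocallyConstant B) : EtCoh.IsFiniteLocallyConstant (kernel φ) := by
  have e₁ : (ShortComplex.mk (0 : kernel φ ⟶ kernel φ) (kernel.ι φ) zero_comp).Exact :=
    (ShortComplex.exact_iff_mono _ rfl).2 (inferInstanceAs (Mono (kernel.ι φ)))
  have e₂ : (ShortComplex.mk (kernel.ι φ) φ (kernel.condition φ)).Exact :=
    ShortComplex.exact_of_f_is_kernel _ (kernelIsKernel φ)
  have hz : Loc (0 : EtCoh.Ab X) := loc_of_isZero (isZero_zero _)
  exact flc_of_loc (Loc.of_exact₅ (0 : (0 : EtCoh.Ab X) ⟶ 0) (0 : (0 : EtCoh.Ab X) ⟶ kernel φ)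
    (kernel.ι φ) φ
    (fun Ω _ _ ξ => function_exact_stalk (S := ShortComplex.mk _ _ (zero_comp : (0 : (0 : EtCoh.Ab X) ⟶ 0) ≫ (0 : (0 : EtCoh.Ab X) ⟶ kernel φ) = 0))
      (ShortComplex.exact_of_isZero_X₂ _ (isZero_zero _)) Ω ξ)
    (fun Ω _ _ ξ => function_exact_stalk (S := ShortComplex.mk _ _
      (zero_comp : (0 : (0 : EtCoh.Ab X) ⟶ kernel φ) ≫ kernel.ι φ = 0))
      ((ShortComplex.exact_iff_mono _ rfl).2 (inferInstanceAs (Mono (kernel.ι φ)))) Ω ξ)
    (fun Ω _ _ ξ => function_exact_stalk e₂ Ω ξ) hz hz (loc_of_flc hA) (loc_of_flc hB))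

theorem flc_cokernel {A B : EtCoh.Ab X} (φ : A ⟶ B) (hA : EtCoh.IsFiniteLocallyConstant A)
    (hB : EtCoh.IsFiniteLocallyConstant B) : EtCoh.IsFiniteLocallyConstant (cokernel φ) := by
  have hz : Loc (0 : EtCoh.Ab X) := loc_of_isZero (isZero_zero _)
  exact flc_of_loc (Loc.of_exact₅ φ (cokernel.π φ) (0 : cokernel φ ⟶ (0 : EtCoh.Ab X))
    (0 : (0 : EtCoh.Ab X) ⟶ 0)
    (fun Ω _ _ ξ => function_exact_stalk (S := ShortComplex.mk φ (cokernel.π φ) (cokernel.condition φ))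
      (ShortComplex.exact_of_g_is_cokernel _ (cokernelIsCokernel φ)) Ω ξ)
    (fun Ω _ _ ξ => function_exact_stalk (S := ShortComplex.mk (cokernel.π φ)
      (0 : cokernel φ ⟶ (0 : EtCoh.Ab X)) comp_zero)
      ((ShortComplex.exact_iff_epi _ rfl).2 (inferInstanceAs (Epi (cokernel.π φ)))) Ω ξ)
    (fun Ω _ _ ξ => function_exact_stalk (S := ShortComplex.mk (0 : cokernel φ ⟶ (0 : EtCoh.Ab X))
      (0 : (0 : EtCoh.Ab X) ⟶ 0) comp_zero)
      (ShortComplex.exact_of_isZero_X₂ _ (isZero_zero _)) Ω ξ)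
    (loc_of_flc hA) (loc_of_flc hB) hz hz)

theorem flc_extension {S : ShortComplex (EtCoh.Ab X)} (hS : S.ShortExact)
    (h₁ : EtCoh.IsFiniteLocallyConstant S.X₁) (h₃ : EtCoh.IsFiniteLocallyConstant S.X₃) :
    EtCoh.IsFiniteLocallyConstant S.X₂ := by
  have hz : Loc (0 : EtCoh.Ab X) := loc_of_isZero (isZero_zero _)
  haveI := hS.mono_f
  haveI := hS.epi_g
  exact flc_of_loc (Loc.of_exact₅ (0 : (0 : EtCoh.Ab X) ⟶ S.X₁) S.f S.g
    (0 : S.X₃ ⟶ (0 : EtCoh.Ab X))
    (fun Ω _ _ ξ => function_exact_stalk (S := ShortComplex.mk _ _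
      (zero_comp : (0 : (0 : EtCoh.Ab X) ⟶ S.X₁) ≫ S.f = 0))
      ((ShortComplex.exact_iff_mono _ rfl).2 (inferInstanceAs (Mono S.f))) Ω ξ)
    (fun Ω _ _ ξ => function_exact_stalk hS.exact Ω ξ)
    (fun Ω _ _ ξ => function_exact_stalk (S := ShortComplex.mk S.g
      (0 : S.X₃ ⟶ (0 : EtCoh.Ab X)) comp_zero)
      ((ShortComplex.exact_iff_epi _ rfl).2 (inferInstanceAs (Epi S.g))) Ω ξ)
    hz (loc_of_flc h₁) (loc_of_flc h₃) hz)

end Groth.Agent.LocConst24
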