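import Groth.Agent.Lib.LocConst24.Specialization
import Groth.Agent.Lib.LocConst24.Iff
import Groth.Agent.Lib.Constr24.Sub
import Mathlib.FieldTheory.IsAlgClosed.AlgebraicClosure
import Mathlib.Topology.Sober

/-!
# Specialisation criteria for locally constant and constructible sheaves
-/

universe u

set_option maxHeartbeats 400000

open CategoryTheory CategoryTheory.Limits AlgebraicGeometry Opposite Topology
open Groth.Agent.EtSite Groth.Agent.EtStalk

namespace Groth.Agent.LocConst24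

variable {X : Scheme.{u}}

/-- The standard algebraically closed geometric point. -/
noncomputable def algPt (X : Scheme.{u}) (x : X) :
    Spec (CommRingCat.of (AlgebraicClosure (X.residueField x))) ⟶ X :=
  Spec.map (CommRingCat.ofHom (algebraMap (X.residueField x) (AlgebraicClosure (X.residueField x)))) ≫
    X.fromSpecResidueField x

theorem algPt_default (X : Scheme.{u}) (x : X) : algPt X x default = x :=
  X.fromSpecResidueField_apply x _

theorem exists_algFib (U : X.Etale) (w : U.left) :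
    ∃ (Ω : Type u) (_ : Field Ω) (_ : IsAlgClosed Ω) (ξ : Spec (CommRingCat.of Ω) ⟶ X) (φ : fib ξ U),
      fibPt φ = w :=
  ⟨AlgebraicClosure (U.left.residueField w), inferInstance, inferInstance, algPt U.left w ≫ U.hom,
    Over.homMk (algPt U.left w) rfl, algPt_default U.left w⟩

/-- A specialisation of points of an étale scheme is induced by a morphism of geometric points. -/
theorem exists_hom_of_specializes {K Ω : Type u} [Field K] [IsSepClosed K] [Field Ω] [IsAlgClosed Ω]
    {U : X.Etale} {ξ : Spec (CommRingCat.of K) ⟶ X} {ξ' : Spec (CommRingCat.of Ω) ⟶ X}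
    (a : fib ξ U) (z : fib ξ' U) (h : fibPt z ⤳ fibPt a) :
    ∃ φ : Scheme.pointSmallEtale ξ' ⟶ Scheme.pointSmallEtale ξ, φ.hom.app U a = z := by
  suffices ∀ (al : Spec (CommRingCat.of K) ⟶ U.left) (zl : Spec (CommRingCat.of Ω) ⟶ U.left)
      (ha : al ≫ U.hom = ξ) (hz : zl ≫ U.hom = ξ'), zl default ⤳ al default →
      ∃ φ : Scheme.pointSmallEtale ξ' ⟶ Scheme.pointSmallEtale ξ,
        φ.hom.app U (Over.homMk al ha) = Over.homMk zl hz from
    this a.left z.left (Over.w a) (Over.w z) h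
  rintro al zl rfl rfl h
  exact exists_specialization_at U al zl h

/-- Constant sections giving the stalk at a geometric point, when it is finite. -/
theorem exists_sec_bij {Ω : Type u} [Field Ω] [IsSepClosed Ω] (ξ : Spec (CommRingCat.of Ω) ⟶ X)
    (F : EtCoh.Ab X) [Finite ((EtCoh.stalk ξ).obj F)] :
    ∃ (U : X.Etale) (a : fib ξ U) (M : Type) (_ : AddCommGroup M) (_ : Finite M)
      (σ : M →+ F.obj.obj (op U)), Function.Bijective fun m => germ ξ F a (σ m) := by
  haveI : Countable ((EtCoh.stalk ξ).obj F) := Finite.to_countable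
  let e : Shrink.{0} ((EtCoh.stalk ξ).obj F) ≃+ (EtCoh.stalk ξ).obj F := Shrink.addEquiv
  haveI : Finite (Shrink.{0} ((EtCoh.stalk ξ).obj F)) := Finite.of_equiv _ e.symm.toEquiv
  obtain ⟨U, -, a, σ, -, hσ⟩ := exists_lift_hom ξ
    (Over.homMk ξ (Category.comp_id _) : fib ξ (EtCoh.top X)) e.toAddMonoidHom
  refine ⟨U, a, _, inferInstance, inferInstance, σ, ?_⟩
  convert e.bijective using 1
  funext m
  exact hσ m

section Spec

variable {K Ω : Type u} [Field K] [IsSepClosed K] [Field Ω] [IsSepClosed Ω]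
  {ξ : Spec (CommRingCat.of K) ⟶ X} {ξ' : Spec (CommRingCat.of Ω) ⟶ X}
  (φ : Scheme.pointSmallEtale ξ' ⟶ Scheme.pointSmallEtale ξ) {F : EtCoh.Ab X} {U : X.Etale}
  {a : fib ξ U} {z : fib ξ' U} (hφ : φ.hom.app U a = z)
  {M : Type} [AddCommGroup M] (σ : M →+ F.obj.obj (op U))

include hφ in
theorem germ_spec_comp :
    (fun m => germ ξ' F z (σ m)) =
      (GrothendieckTopology.Point.Hom.sheafFiber (A := AddCommGrpCat.{u + 1}) φ).app F ∘
        fun m => germ ξ F a (σ m) :=
  funext fun m => (hφ ▸ (sheafFiber_germ φ F a (σ m)).symm)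

include hφ in
theorem bij_spec_iff
    (h : IsIso ((GrothendieckTopology.Point.Hom.sheafFiber (A := AddCommGrpCat.{u + 1}) φ).app F)) :
    (Function.Bijective fun m => germ ξ' F z (σ m)) ↔ Function.Bijective fun m => germ ξ F a (σ m) := by
  rw [germ_spec_comp φ hφ σ]
  exact (ConcreteCategory.bijective_of_isIso _).of_comp_iff' _

end Spec

/-- Near any point of an étale scheme over a locally Noetherian one, every point is linked to it
through a common generization. -/
theorem exists_open_common_gen [IsLocallyNoetherian X] (U : X.Etale) (a : U.left) :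
    ∃ N : U.left.Opens, a ∈ N ∧ ∀ z ∈ N, ∃ g : U.left, g ⤳ a ∧ g ⤳ z := by
  classical
  haveI : AlgebraicGeometry.Etale U.hom := U.prop
  haveI : IsLocallyNoetherian ((Functor.fromPUnit X).obj U.right) := ‹IsLocallyNoetherian X›
  haveI : IsLocallyNoetherian U.left := LocallyOfFiniteType.isLocallyNoetherian U.hom
  obtain ⟨O, hO, haO, -⟩ := exists_isAffineOpen_mem_and_subset (U := (⊤ : U.left.Opens)) (x := a) trivial
  haveI : IsAffine O.toScheme := hO
  haveI : IsLocallyNoetherian O.toScheme := isLocallyNoetherian_of_isOpenImmersion O.ι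
  haveI : IsNoetherian O.toScheme := {}
  let B : Set O.toScheme := ⋃₀ {Z | Z ∈ irreducibleComponents O.toScheme ∧ (⟨a, haO⟩ : O.toScheme) ∉ Z}
  have hB : IsClosed B := by
    show IsClosed (⋃₀ _)
    rw [Set.sUnion_eq_biUnion]
    exact Set.Finite.isClosed_biUnion
      (TopologicalSpace.NoetherianSpace.finite_irreducibleComponents.subset fun Z hZ => hZ.1)
      fun Z hZ => isClosed_of_mem_irreducibleComponents Z hZ.1
  refine ⟨⟨O.ι '' Bᶜ, O.ι.isOpenEmbedding.isOpenMap _ hB.isOpen_compl⟩, ⟨⟨a, haO⟩, ?_, rfl⟩, ?_⟩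
  · rintro ⟨Z, ⟨-, hZ⟩, haZ⟩
    exact hZ haZ
  · rintro _ ⟨z, hz, rfl⟩
    let Z := irreducibleComponent z
    have haZ : (⟨a, haO⟩ : O.toScheme) ∈ Z := by_contra fun h =>
      hz ⟨Z, ⟨irreducibleComponent_mem_irreducibleComponents z, h⟩, mem_irreducibleComponent⟩
    obtain ⟨g, hg⟩ := QuasiSober.sober (isIrreducible_irreducibleComponent (x := z))
      isClosed_irreducibleComponent
    refine ⟨O.ι g, ?_, ?_⟩
    · exact (hg.specializes haZ).map O.ι.continuous
    · exact (hg.specializes mem_irreducibleComponent).map O.ι.continuous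

/-- A point of an étale scheme has a neighbourhood containing no other point of its fibre. -/
theorem exists_open_isolated (U : X.Etale) (a : U.left) :
    ∃ N : U.left.Opens, a ∈ N ∧ ∀ w ∈ N, U.hom w = U.hom a → w = a := by
  haveI : AlgebraicGeometry.Etale U.hom := U.prop
  haveI : LocallyQuasiFinite U.hom := FiniteSplit.locallyQuasiFinite_of_etale _
  haveI hdisc : DiscreteTopology ↥(U.hom ⁻¹' {U.hom a}) :=
    isDiscrete_iff_discreteTopology.1 (Scheme.Hom.isDiscrete_preimage_singleton U.hom _)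
  obtain ⟨O, hO, hO'⟩ := isOpen_induced_iff.1 (isOpen_discrete ({⟨a, rfl⟩} : Set ↥(U.hom ⁻¹' {U.hom a})))
  refine ⟨⟨O, hO⟩, ?_, fun w hw hwa => ?_⟩
  · have : (⟨a, rfl⟩ : ↥(U.hom ⁻¹' {U.hom a})) ∈ Subtype.val ⁻¹' O := by rw [hO']; rfl
    exact this
  · have : (⟨w, hwa⟩ : ↥(U.hom ⁻¹' {U.hom a})) ∈ Subtype.val ⁻¹' O := hw
    rw [hO', Set.mem_singleton_iff] at this
    exact congrArg Subtype.val this

theorem flc_iff_specializations_iso [IsLocallyNoetherian X] (F : EtCoh.Ab X)
    (hfin : ∀ (Ω : Type u) [Field Ω] [IsSepClosed Ω] (ξ : Spec (CommRingCat.of Ω) ⟶ X),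
      Finite ((EtCoh.stalk ξ).obj F)) :
    EtCoh.IsFiniteLocallyConstant F ↔
      ∀ (Ω Ω' : Type u) [Field Ω] [IsSepClosed Ω] [Field Ω'] [IsSepClosed Ω']
        (ξ : Spec (CommRingCat.of Ω) ⟶ X) (ξ' : Spec (CommRingCat.of Ω') ⟶ X)
        (φ : Scheme.pointSmallEtale ξ' ⟶ Scheme.pointSmallEtale ξ),
        IsIso ((GrothendieckTopology.Point.Hom.sheafFiber (A := AddCommGrpCat.{u + 1}) φ).app F) := by
  constructor
  · intro h Ω Ω' _ _ _ _ ξ ξ' φ
    obtain ⟨U, w, hw, M, _, _, σ, hσ⟩ := loc_of_flc h (ξ default)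
    obtain ⟨a, -⟩ := Scheme.pointSmallEtaleFiberObjToPreimage_surjective ξ
      (s₀ := ξ default) rfl U ⟨w, hw⟩
    have h1 := hσ Ω' ξ' (φ.hom.app U a)
    rw [germ_spec_comp φ rfl σ] at h1
    rw [ConcreteCategory.isIso_iff_bijective]
    exact (Function.Bijective.of_comp_iff _ (hσ Ω ξ a)).1 h1
  · intro h
    refine flc_of_loc fun x => ?_
    haveI := hfin _ (algPt X x)
    obtain ⟨U, a, M, _, hM, σ, hσ⟩ := exists_sec_bij (algPt X x) F
    obtain ⟨N, haN, hN⟩ := exists_open_common_gen U (fibPt a)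
    have hbij : ∀ (Ω : Type u) [Field Ω] [IsAlgClosed Ω] (η : Spec (CommRingCat.of Ω) ⟶ X)
        (z : fib η (sub U N)), Function.Bijective fun m => germ η F z (resSec (subHom U N) σ m) := by
      intro Ω _ _ η z₀
      simp only [germ_resSec]
      set z := (Scheme.pointSmallEtale η).fiber.map (subHom U N) z₀
      obtain ⟨g, hga, hgz⟩ := hN (fibPt z) (z₀.left (default : Spec (CommRingCat.of Ω))).2
      obtain ⟨L, _, _, ζ, w, hw⟩ := exists_algFib U g
      obtain ⟨φ₁, hφ₁⟩ := exists_hom_of_specializes a w (hw.symm ▸ hga)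
      obtain ⟨φ₂, hφ₂⟩ := exists_hom_of_specializes z w (hw.symm ▸ hgz)
      exact (bij_spec_iff φ₂ hφ₂ σ (h _ _ _ _ _)).1 ((bij_spec_iff φ₁ hφ₁ σ (h _ _ _ _ _)).2 hσ)
    obtain ⟨θ⟩ := nonempty_triv_of_alg hbij
    refine ⟨sub U N, ⟨fibPt a, haN⟩, ?_, M, inferInstance, hM, _, bijAt_rho θ⟩
    show U.hom (fibPt a) = x
    have h1 : a.left ≫ U.hom = algPt X x := Over.w a
    exact (congrArg (fun r : Spec (CommRingCat.of (AlgebraicClosure (X.residueField x))) ⟶ X =>
      r default) h1).trans (algPt_default X x)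

/-- Pullback is locally constant where sections give the stalks over the source. -/
theorem loc_pull_of_image {Y : Scheme.{u}} (f : X ⟶ Y) {G : EtCoh.Ab Y}
    (h : ∀ x : X, ∃ (U : Y.Etale) (v : U.left), U.hom v = f x ∧
      ∃ (M : Type) (_ : AddCommGroup M) (_ : Finite M) (σ : M →+ G.obj.obj (op U)),
        ∀ (Ω : Type u) [Field Ω] [IsSepClosed Ω] (η : Spec (CommRingCat.of Ω) ⟶ X)
          (z : fib (η ≫ f) U), Function.Bijective fun m => germ (η ≫ f) G z (σ m)) :
    Loc ((EtCoh.pull f).obj G) := by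
  intro x
  obtain ⟨U, v, hu, M, _, hM, σ, hσ⟩ := h x
  obtain ⟨w, -, hw⟩ := Scheme.Pullback.exists_preimage_pullback (f := U.hom) (g := f) v x hu
  refine ⟨(EtCoh.bc f).obj U, w, hw, M, inferInstance, hM,
    (((EtCoh.pullPushAdj f).unit.app G).hom.app (op U)).hom.comp σ, fun Ω _ _ ξ z => ?_⟩
  have hz : liftFib f ξ (dropFib f ξ z) = z := by
    refine Over.OverMorphism.ext (pullback.hom_ext ?_ ?_)
    · exact pullback.lift_fst _ _ _
    · exact (pullback.lift_snd _ _ _).trans (Over.w z).symm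
  have h2 := (ConcreteCategory.bijective_of_isIso (stalkPull f ξ G)).comp
    (hσ Ω ξ (dropFib f ξ z))
  convert h2 using 1
  funext m
  refine Eq.trans ?_ (germ_stalkPull f ξ G (dropFib f ξ z) (σ m)).symm
  rw [hz]
  rfl

theorem constructible_of_specializations_mono [IsLocallyNoetherian X] (F : EtCoh.Ab X)
    (hfin : ∀ (Ω : Type u) [Field Ω] [IsSepClosed Ω] (ξ : Spec (CommRingCat.of Ω) ⟶ X),
      Finite ((EtCoh.stalk ξ).obj F))
    (hmono : ∀ (Ω Ω' : Type u) [Field Ω] [IsSepClosed Ω] [Field Ω'] [IsSepClosed Ω']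
        (ξ : Spec (CommRingCat.of Ω) ⟶ X) (ξ' : Spec (CommRingCat.of Ω') ⟶ X)
        (φ : Scheme.pointSmallEtale ξ' ⟶ Scheme.pointSmallEtale ξ),
        Mono ((GrothendieckTopology.Point.Hom.sheafFiber (A := AddCommGrpCat.{u + 1}) φ).app F)) :
    EtPBC.IsConstructible F := by
  rw [Constr24.isConstructible_iff_closures]
  intro x
  haveI := hfin _ (algPt X x)
  obtain ⟨U, a, M, _, hM, σ, hσ⟩ := exists_sec_bij (algPt X x) F
  haveI : AlgebraicGeometry.Etale U.hom := U.prop
  have hax : U.hom (fibPt a) = x := by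
    have h1 : a.left ≫ U.hom = algPt X x := Over.w a
    exact (congrArg (fun r : Spec (CommRingCat.of (AlgebraicClosure (X.residueField x))) ⟶ X =>
      r default) h1).trans (algPt_default X x)
  obtain ⟨N, haN, hN⟩ := exists_open_isolated U (fibPt a)
  let V : X.Opens := ⟨U.hom '' (N : Set U.left), (U.hom).isOpenMap _ N.2⟩
  have hxV : x ∈ V := ⟨fibPt a, haN, hax⟩
  let Z : TopologicalSpace.Closeds V.toScheme :=
    ⟨V.ι ⁻¹' closure {x}, isClosed_closure.preimage V.ι.continuous⟩
  let c : (Scheme.IdealSheafData.vanishingIdeal Z).subscheme ⟶ X :=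
    (Scheme.IdealSheafData.vanishingIdeal Z).subschemeι ≫ V.ι
  haveI : IsImmersion c := inferInstanceAs (IsImmersion (_ ≫ _))
  have hc : Set.range c = (V : Set X) ∩ closure {x} := by
    show Set.range (V.ι ∘ (Scheme.IdealSheafData.vanishingIdeal Z).subschemeι) = _
    rw [Set.range_comp, Scheme.IdealSheafData.range_subschemeι,
      Scheme.IdealSheafData.coe_support_vanishingIdeal]
    show V.ι '' (V.ι ⁻¹' closure {x}) = _
    rw [Set.image_preimage_eq_range_inter, V.range_ι]
  refine ⟨V, _, c, inferInstance, hxV, hc, flc_of_loc (loc_pull_of_image c fun t => ?_)⟩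
  obtain ⟨⟨v, hvN, hv⟩, -⟩ := hc.le ⟨t, rfl⟩
  refine ⟨sub U N, ⟨v, hvN⟩, hv, M, inferInstance, hM, resSec (subHom U N) σ, fun Ω _ _ η z₀ => ?_⟩
  simp only [germ_resSec]
  set z := (Scheme.pointSmallEtale (η ≫ c)).fiber.map (subHom U N) z₀
  have hzN : fibPt z ∈ N := (z₀.left (default : Spec (CommRingCat.of Ω))).2
  have hzx : x ⤳ U.hom (fibPt z) := by
    have h1 : U.hom (fibPt z) = (η ≫ c) default := by
      have h2 : z.left ≫ U.hom = η ≫ c := Over.w z
      exact congrArg (fun r : Spec (CommRingCat.of Ω) ⟶ X => r default) h2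
    rw [h1, specializes_iff_mem_closure]
    exact (hc.le ⟨η default, rfl⟩).2
  obtain ⟨w, hwz, hwx⟩ := Flat.generalizingMap U.hom hzx
  have hwa : w = fibPt a := hN w (hwz.mem_open N.2 hzN) (hwx.trans hax.symm)
  obtain ⟨φ, hφ⟩ := exists_hom_of_specializes z a (hwa ▸ hwz)
  haveI := hmono _ _ _ _ φ
  have hinj := (AddCommGrpCat.mono_iff_injective
    ((GrothendieckTopology.Point.Hom.sheafFiber (A := AddCommGrpCat.{u + 1}) φ).app F)).1 inferInstance
  have hsp := germ_spec_comp φ hφ σ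
  constructor
  · intro m n e
    exact hσ.1 ((congrFun hsp m).trans ((congrArg
      (fun q => (GrothendieckTopology.Point.Hom.sheafFiber (A := AddCommGrpCat.{u + 1}) φ).app F q) e).trans
      (congrFun hsp n).symm))
  · intro q
    obtain ⟨m, hm⟩ := hσ.2
      ((GrothendieckTopology.Point.Hom.sheafFiber (A := AddCommGrpCat.{u + 1}) φ).app F q)
    exact ⟨m, hinj ((congrFun hsp m).symm.trans hm)⟩

end Groth.Agent.LocConst24
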