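import Groth.Agent.Lib.LocConst24.Iff
import Groth.Agent.Lib.EtStalk.Agree

/-!
# Local constancy descends along étale coverings
-/

universe u

set_option maxHeartbeats 400000

open CategoryTheory CategoryTheory.Limits AlgebraicGeometry Opposite
open Groth.Agent.EtSite Groth.Agent.EtStalk

namespace Groth.Agent.LocConst24

variable {X : Scheme.{u}} {F : EtCoh.Ab X}

/-- Local constancy of a pullback to an étale scheme gives it at the image. -/
theorem exists_bijAt_of_pull {x : X} {T : Scheme.{u}} (f : T ⟶ X) [hf : AlgebraicGeometry.Etale f]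
    (t : T) (ht : f t = x) (hloc : Loc ((EtCoh.pull f).obj F)) :
    ∃ (U : X.Etale) (u : U.left), U.hom u = x ∧
      ∃ (M : Type) (_ : AddCommGroup M) (_ : Finite M) (σ : M →+ F.obj.obj (op U)), BijAt F σ := by
  obtain ⟨U, u', hu, M, _, hM, σ, hσ⟩ := hloc t
  obtain ⟨a, -⟩ := Scheme.pointSmallEtaleFiberObjToPreimage_surjective (geomPt T t)
    (geomPt_default t) U ⟨u', hu⟩
  set ξ := geomPt T t with hξ
  let e := asIso (stalkPull f ξ F)
  let h₀ : M →+ (EtCoh.stalk (ξ ≫ f)).obj F :=
    e.inv.hom.comp ((germ ξ ((EtCoh.pull f).obj F) a).hom.comp σ)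
  let xtop : fib (ξ ≫ f) (EtCoh.top X) := Over.homMk (ξ ≫ f) (Category.comp_id _)
  obtain ⟨V, -, y, τ, -, hτ⟩ := exists_lift_hom (ξ ≫ f) xtop h₀
  obtain ⟨W, z, c, d, hc, hd⟩ := exists_common_fib ξ (liftFib f ξ y) a
  let η := (EtCoh.pullPushAdj f).unit.app F
  obtain ⟨W', g, z', -, he⟩ := exists_nhd_eq (F := (EtCoh.pull f).obj F) ξ z
    (fun m => ((EtCoh.pull f).obj F).obj.map c.op (η.hom.app (op V) (τ m)))
    (fun m => ((EtCoh.pull f).obj F).obj.map d.op (σ m)) (fun m => by
      rw [germ_map, germ_map, hc, hd, ← germ_stalkPull, hτ]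
      exact ConcreteCategory.congr_hom e.inv_hom_id _)
  let gW : W'.left ⟶ ((EtCoh.bc f).obj V).left := (g ≫ c).left
  haveI : AlgebraicGeometry.Etale gW := etale_left (g ≫ c)
  haveI : AlgebraicGeometry.Etale (bcFst f V) :=
    inferInstanceAs (AlgebraicGeometry.Etale (pullback.fst V.hom f))
  let q : W'.left ⟶ V.left := gW ≫ bcFst f V
  haveI : AlgebraicGeometry.Etale q := inferInstanceAs (AlgebraicGeometry.Etale (gW ≫ bcFst f V))
  let N : V.left.Opens := ⟨Set.range q, q.isOpenMap.isOpen_range⟩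
  have hq : q ≫ V.hom = W'.hom ≫ f := by
    refine (Category.assoc _ _ _).trans ?_
    refine (congrArg (gW ≫ ·) (pullback.condition (f := V.hom) (g := f))).trans ?_
    refine (Category.assoc _ _ _).symm.trans ?_
    exact congrArg (· ≫ f) (MorphismProperty.Over.w (g ≫ c))
  refine ⟨sub V N, ⟨q (fibPt z'), ⟨_, rfl⟩⟩, ?_, M, inferInstance, hM, resSec (subHom V N) τ,
    fun Ω _ _ ζ x₀ => ?_⟩
  · show (V.hom) (q (fibPt z')) = x
    rw [← Scheme.Hom.comp_apply, hq, Scheme.Hom.comp_apply, ← ht]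
    refine congrArg f ?_
    have hz : z'.left ≫ W'.hom = ξ := Over.w z'
    exact (congrArg (fun r : Spec (CommRingCat.of (SeparableClosure (T.residueField t))) ⟶ T =>
      r default) hz).trans (geomPt_default t)
  simp only [germ_resSec]
  set v := (Scheme.pointSmallEtale ζ).fiber.map (subHom V N) x₀ with hv
  let vl : Spec (CommRingCat.of Ω) ⟶ V.left := v.left
  obtain ⟨w₀, hw₀⟩ : fibPt v ∈ Set.range q := (x₀.left (default : Spec (CommRingCat.of Ω))).2
  obtain ⟨y', -⟩ := Scheme.pointSmallEtaleFiberObjToPreimage_surjective vl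
    (s₀ := vl default) rfl (Scheme.Etale.mk q) ⟨w₀, hw₀⟩
  let wl : Spec (CommRingCat.of Ω) ⟶ W'.left := y'.left
  have hwl : wl ≫ q = vl := Over.w y'
  have hζ : (wl ≫ W'.hom) ≫ f = ζ := by
    rw [Category.assoc, ← hq, ← Category.assoc, hwl]
    exact Over.w v
  have key : ∀ (ζ : Spec (CommRingCat.of Ω) ⟶ X) (v : fib ζ V),
      (wl ≫ W'.hom) ≫ f = ζ → v.left = vl →
      Function.Bijective fun m => germ ζ F v (τ m) := by
    rintro _ v rfl hvl
    let ζ' := wl ≫ W'.hom
    let w' : fib ζ' W' := Over.homMk wl rfl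
    have hlift : (Scheme.pointSmallEtale ζ').fiber.map (g ≫ c) w' = liftFib f ζ' v := by
      refine Over.OverMorphism.ext (pullback.hom_ext ?_ ?_)
      · refine Eq.trans ?_ (pullback.lift_fst _ _ _).symm
        refine Eq.trans ?_ hvl.symm
        exact (Category.assoc _ _ _).trans hwl
      · exact (Over.w _).trans (pullback.lift_snd _ _ _).symm
    have hb : Function.Bijective fun m => stalkPull f ζ' F (germ (ζ' ≫ f) F v (τ m)) := by
      have hfun : (fun m => stalkPull f ζ' F (germ (ζ' ≫ f) F v (τ m))) = fun m =>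
          germ ζ' ((EtCoh.pull f).obj F) ((Scheme.pointSmallEtale ζ').fiber.map (g ≫ d) w') (σ m) := by
        funext m
        rw [germ_stalkPull, ← hlift, ← germ_map, ← germ_map, op_comp, op_comp,
          Functor.map_comp_apply, Functor.map_comp_apply]
        exact congrArg (germ ζ' ((EtCoh.pull f).obj F) w') (he m)
      rw [hfun]
      exact hσ Ω ζ' _
    exact ((ConcreteCategory.bijective_of_isIso (stalkPull f ζ' F)).of_comp_iff' _).1 hb
  exact key ζ v hζ rfl

theorem loc_descend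
    (h : ∀ x : X, ∃ (T : Scheme.{u}) (f : T ⟶ X) (_ : AlgebraicGeometry.Etale f) (t : T),
      f t = x ∧ Loc ((EtCoh.pull f).obj F)) : Loc F := fun x =>
  let ⟨_, f, _, t, ht, hloc⟩ := h x
  exists_bijAt_of_pull f t ht hloc

end Groth.Agent.LocConst24
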