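import Groth.Agent.Lib.LocConst24.Iff
import Groth.Agent.Lib.EtStalk.FiniteSplit
import Groth.Agent.Lib.EtStalk.FiniteStalk

/-!
# Direct images of locally constant sheaves along finite étale morphisms
-/

universe u

set_option maxHeartbeats 800000

open CategoryTheory CategoryTheory.Limits AlgebraicGeometry Opposite
open Groth.Agent.EtSite Groth.Agent.EtStalk

namespace Groth.Agent.LocConst24

variable {X Y : Scheme.{u}}

theorem exists_common_family {Ω : Type u} [Field Ω] [IsSepClosed Ω]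
    (ξ : Spec (CommRingCat.of Ω) ⟶ X) : ∀ (n : ℕ) (A : Fin n → X.Etale) (a : ∀ k, fib ξ (A k)),
    ∃ (W : X.Etale) (w : fib ξ W) (t : ∀ k, W ⟶ A k),
      ∀ k, (Scheme.pointSmallEtale ξ).fiber.map (t k) w = a k := by
  intro n
  induction n with
  | zero => exact fun A a => ⟨EtCoh.top X, Over.homMk ξ (Category.comp_id _), finZeroElim, finZeroElim⟩
  | succ n ih =>
    intro A a
    obtain ⟨W, w, t, ht⟩ := ih (fun k => A k.succ) fun k => a k.succ
    obtain ⟨V, v, b, c, hb, hc⟩ := exists_common_fib ξ (a 0) w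
    refine ⟨V, v, Fin.cons b fun k => c ≫ t k, Fin.cases hb fun k => ?_⟩
    simp only [Fin.cons_succ, Functor.map_comp, ConcreteCategory.comp_apply]
    rw [hc, ht]

theorem comp_eq_of_mem_range {A B : Scheme.{u}} (s : A ⟶ B) [IsOpenImmersion s] {Ω : Type u}
    [Field Ω] (a : Spec (CommRingCat.of Ω) ⟶ B) (h : a default ∈ Set.range s) :
    ∃ c : Spec (CommRingCat.of Ω) ⟶ A, c ≫ s = a := by
  refine ⟨IsOpenImmersion.lift s a ?_, IsOpenImmersion.lift_fac _ _ _⟩
  rintro _ ⟨x, rfl⟩
  rwa [show x = default from Subsingleton.elim (α := PrimeSpectrum Ω) _ _]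

theorem Loc.push (f : X ⟶ Y) [IsFinite f] [AlgebraicGeometry.Etale f] {F : EtCoh.Ab X}
    (hF : Loc F) :
    ∀ y : Y, ∃ (U : Y.Etale) (u' : U.left), U.hom u' = y ∧
      ∃ (M : Type) (_ : AddCommGroup M) (_ : Finite M)
        (σ : M →+ ((EtCoh.push f).obj F).obj.obj (op U)),
        ∀ (Ω : Type u) [Field Ω] [IsAlgClosed Ω] (ξ : Spec (CommRingCat.of Ω) ⟶ Y) (x : fib ξ U),
          Function.Bijective fun m => germ ξ ((EtCoh.push f).obj F) x (σ m) := by
  intro y
  obtain ⟨Ω, _, _, η, φ, hφ⟩ := exists_algFib (EtCoh.top Y) y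
  have hη : η default = y := by
    have h : φ.left ≫ (EtCoh.top Y).hom = η := Over.w φ
    rw [← h]
    exact hφ
  let L := fLifts f η
  haveI : Finite L := FiniteSplit.finite_liftsOfFinite f η
  let n := Nat.card L
  let e : Fin n ≃ L := (Finite.equivFin L).symm
  have hloc : ∀ k, ∃ (V : X.Etale) (_ : fib (e k).1 V) (M : Type) (_ : AddCommGroup M) (_ : Finite M)
      (σ : M →+ F.obj.obj (op V)), BijAt F σ := fun k => by
    obtain ⟨V, v, hv, M, _, hM, σ, hσ⟩ := hF ((e k).1 default)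
    obtain ⟨c, -⟩ := Scheme.pointSmallEtaleFiberObjToPreimage_surjective (e k).1 rfl V ⟨v, hv⟩
    exact ⟨V, c, M, inferInstance, hM, σ, hσ⟩
  choose V c M hMg hMf σ hσ using hloc
  let A : Fin n → Y.Etale := fun k =>
    haveI : AlgebraicGeometry.Etale (V k).hom := (V k).prop
    Scheme.Etale.mk ((V k).hom ≫ f)
  let a : ∀ k, fib η (A k) := fun k => Over.homMk (c k).left (by
    show (c k).left ≫ (V k).hom ≫ f = η
    exact (Category.assoc _ _ _).symm.trans ((congrArg (· ≫ f) (Over.w (c k))).trans (e k).2))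
  obtain ⟨W, w, t, ht⟩ := exists_common_family η n A a
  have hΦ : Function.Bijective fun (p : (EtCoh.stalk η).obj ((EtCoh.push f).obj F)) (k : Fin n) =>
      liftStalk f η (e k) F p :=
    (Equiv.piCongrLeft (fun l : L => ((EtCoh.stalk l.1).obj F : Type (u + 1))) e).symm.bijective.comp
      (bijective_liftStalk f η F)
  let Φ : (EtCoh.stalk η).obj ((EtCoh.push f).obj F) ≃+ ∀ k, (EtCoh.stalk (e k).1).obj F :=
    AddEquiv.ofBijective (AddMonoidHom.mk' (fun p k => liftStalk f η (e k) F p)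
      (fun p q => funext fun k => map_add _ _ _)) hΦ
  let h : (∀ k, M k) →+ (EtCoh.stalk η).obj ((EtCoh.push f).obj F) :=
    Φ.symm.toAddMonoidHom.comp (AddMonoidHom.mk'
      (fun (m : ∀ k, M k) k => germ (e k).1 F (c k) (σ k (m k)))
      (fun m m' => funext fun k => by simp only [Pi.add_apply, map_add]))
  have hh : ∀ m k, liftStalk f η (e k) F (h m) = germ (e k).1 F (c k) (σ k (m k)) := fun m k =>
    congrFun (Φ.apply_symm_apply fun k => germ (e k).1 F (c k) (σ k (m k))) k
  obtain ⟨W₁, g₁, w₁, τ, hw₁, hτ⟩ := exists_lift_hom (F := (EtCoh.push f).obj F) η w h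
  -- the sections
  let q : ∀ k, W₁.left ⟶ X := fun k => (g₁ ≫ t k).left ≫ (V k).hom
  have hq : ∀ k, q k ≫ f = W₁.hom := fun k =>
    (Category.assoc _ _ _).trans (MorphismProperty.Over.w (g₁ ≫ t k))
  haveI hqet : ∀ k, AlgebraicGeometry.Etale (q k) := fun k => by
    haveI : AlgebraicGeometry.Etale (q k ≫ f) := by rw [hq]; exact W₁.prop
    exact Etale.of_comp (q k) f
  let Z : Fin n → X.Etale := fun k => Scheme.Etale.mk (q k)
  let bW := (EtCoh.bc f).obj W₁
  let s : ∀ k, W₁.left ⟶ bW.left := fun k =>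
    pullback.lift (𝟙 W₁.left) (q k) ((Category.id_comp _).trans (hq k).symm)
  let fst : bW.left ⟶ W₁.left := bcFst f W₁
  have hs₁ : ∀ k, s k ≫ fst = 𝟙 _ := fun k => pullback.lift_fst _ _ _
  have hs₂ : ∀ k, s k ≫ bW.hom = q k := fun k => pullback.lift_snd _ _ _
  haveI : IsFinite fst := inferInstanceAs (IsFinite (pullback.fst W₁.hom f))
  haveI : AlgebraicGeometry.Etale fst := inferInstanceAs (AlgebraicGeometry.Etale (pullback.fst W₁.hom f))
  haveI hso : ∀ k, IsOpenImmersion (s k) := fun k => by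
    haveI : AlgebraicGeometry.Etale (s k ≫ fst) := by rw [hs₁]; infer_instance
    haveI : AlgebraicGeometry.Etale (s k) := Etale.of_comp (s k) fst
    haveI : IsClosedImmersion (s k ≫ fst) := by rw [hs₁]; infer_instance
    haveI : IsClosedImmersion (s k) := IsClosedImmersion.of_comp (s k) fst
    exact IsOpenImmersion.of_flat_of_mono (s k)
  have hsc : ∀ k, IsClosed (Set.range (s k)) := fun k => by
    haveI : IsClosedImmersion (s k ≫ fst) := by rw [hs₁]; infer_instance
    haveI : IsClosedImmersion (s k) := IsClosedImmersion.of_comp (s k) fst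
    exact (s k).isClosedEmbedding.isClosed_range
  let zk : ∀ {Ω' : Type u} [Field Ω'] [IsAlgClosed Ω'] {ξ : Spec (CommRingCat.of Ω') ⟶ Y}
      (z : fib ξ W₁) (k : Fin n), fLifts f ξ := fun {_} _ _ {ξ} z k =>
    ⟨z.left ≫ q k, (Category.assoc _ _ _).trans ((congrArg (z.left ≫ ·) (hq k)).trans (Over.w z))⟩
  let zf : ∀ {Ω' : Type u} [Field Ω'] [IsAlgClosed Ω'] {ξ : Spec (CommRingCat.of Ω') ⟶ Y}
      (z : fib ξ W₁) (k : Fin n), fib (zk z k).1 (Z k) := fun {_} _ _ {_} z k =>
    Over.homMk z.left rfl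
  let j : ∀ k, Z k ⟶ bW := fun k => MorphismProperty.Over.homMk (s k) (hs₂ k)
  let r : ∀ k, Z k ⟶ V k := fun k => MorphismProperty.Over.homMk (g₁ ≫ t k).left rfl
  have hj : ∀ {Ω' : Type u} [Field Ω'] [IsAlgClosed Ω'] {ξ : Spec (CommRingCat.of Ω') ⟶ Y}
      (z : fib ξ W₁) (k : Fin n),
      (Scheme.pointSmallEtale (zk z k).1).fiber.map (j k) (zf z k) = liftAt f ξ z (zk z k) := by
    intro Ω' _ _ ξ z k
    refine Over.OverMorphism.ext (pullback.hom_ext ?_ ?_)
    · refine (Category.assoc _ _ _).trans ?_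
      refine Eq.trans ?_ (liftAt_left_fst f ξ z (zk z k)).symm
      exact (congrArg (z.left ≫ ·) (hs₁ k)).trans (Category.comp_id _)
    · refine (Category.assoc _ _ _).trans ?_
      exact (congrArg (z.left ≫ ·) (hs₂ k)).trans (Over.w (liftAt f ξ z (zk z k))).symm
  -- the geometric point `w₁`
  have hk : ∀ k, zk w₁ k = e k := fun k => Subtype.ext <| by
    show w₁.left ≫ (g₁ ≫ t k).left ≫ (V k).hom = (e k).1
    have h1 : (Scheme.pointSmallEtale η).fiber.map (g₁ ≫ t k) w₁ = a k := by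
      rw [Functor.map_comp, ConcreteCategory.comp_apply, hw₁, ht]
    have h2 : w₁.left ≫ (g₁ ≫ t k).left = (c k).left := congrArg CommaMorphism.left h1
    exact (Category.assoc _ _ _).symm.trans ((congrArg (· ≫ (V k).hom) h2).trans (Over.w (c k)))
  have hagree : ∀ m k, fibPt w₁ ∈ agree F (U := Z k) (F.obj.map (j k).op (τ m))
      (F.obj.map (r k).op (σ k (m k))) := fun m k => by
    refine (mem_agree_iff_germ F (zf w₁ k) _ _).2 ?_
    rw [germ_map, germ_map, hj, ← liftStalk_germ f η (zk w₁ k) F w₁ (τ m)]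
    have key : ∀ (l : fLifts f η), l = e k → ∀ (x : fib l.1 (V k)),
        x.left = (c k).left → liftStalk f η l F (h m) = germ l.1 F x (σ k (m k)) := by
      rintro _ rfl x hx
      rw [show x = c k from Over.OverMorphism.ext hx]
      exact hh m k
    refine (congrArg (liftStalk f η (zk w₁ k) F) (hτ m)).trans (key _ (hk k) _ ?_)
    have h1 : (Scheme.pointSmallEtale η).fiber.map (g₁ ≫ t k) w₁ = a k := by
      rw [Functor.map_comp, ConcreteCategory.comp_apply, hw₁, ht]
    exact congrArg CommaMorphism.left h1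
  -- the good open
  let bad : Set bW.left :=
    (⋃ k, Set.range (s k))ᶜ ∪ ⋃ p : {p : Fin n × Fin n // p.1 ≠ p.2},
      Set.range (s p.1.1) ∩ Set.range (s p.1.2)
  have hbad : IsClosed bad := (isOpen_iUnion fun k => (s k).isOpenEmbedding.isOpen_range).isClosed_compl.union
    (isClosed_iUnion_of_finite fun p => (hsc _).inter (hsc _))
  let N : W₁.left.Opens := ⟨(fst '' bad)ᶜ ∩ ⋂ p : (∀ k, M k) × Fin n,
      (agree F (U := Z p.2) (F.obj.map (j p.2).op (τ p.1)) (F.obj.map (r p.2).op (σ p.2 (p.1 p.2))) :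
        Set W₁.left),
    (fst.isClosedMap _ hbad).isOpen_compl.inter (isOpen_iInter_of_finite fun p => isOpen_agree F _ _)⟩
  have hwN : fibPt w₁ ∈ N := by
    refine ⟨?_, Set.mem_iInter.2 fun p => hagree p.1 p.2⟩
    rintro ⟨p, hp, hpw⟩
    haveI : LocallyQuasiFinite fst := inferInstance
    obtain ⟨b, hb, hbp⟩ := Groth.Agent.Weight.exists_lift_of_eq fst p (fst.quasiFiniteAt p) w₁.left
      (hpw.trans (congrArg w₁.left (Subsingleton.elim (α := PrimeSpectrum Ω) _ _)))
    have hbp' : b default = p :=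
      (congrArg b (Subsingleton.elim (α := PrimeSpectrum Ω) _ _)).trans hbp
    have hbs : ∀ k, (b ≫ bW.hom) = (e k).1 → b = w₁.left ≫ s k := fun k hk' => by
      refine pullback.hom_ext ?_ ?_
      · refine hb.trans ?_
        exact ((Category.assoc _ _ _).trans ((congrArg (w₁.left ≫ ·) (hs₁ k)).trans (Category.comp_id _))).symm
      · refine hk'.trans (((congrArg Subtype.val (hk k)).symm).trans ?_)
        exact ((Category.assoc _ _ _).trans (congrArg (w₁.left ≫ ·) (hs₂ k))).symm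
    have hl : (b ≫ bW.hom) ≫ f = η := by
      have h1 : fst ≫ W₁.hom = bW.hom ≫ f := pullback.condition
      rw [Category.assoc, ← h1, ← Category.assoc, hb]
      exact Over.w w₁
    rcases hp with hp | hp
    · refine hp (Set.mem_iUnion.2 ⟨e.symm ⟨_, hl⟩, fibPt w₁, ?_⟩)
      refine (congrArg (fun t : Spec (CommRingCat.of Ω) ⟶ bW.left => t default) (hbs (e.symm ⟨_, hl⟩) (by rw [e.apply_symm_apply]))).symm.trans hbp'
    · obtain ⟨⟨⟨k, k'⟩, hne⟩, h1, h2⟩ := Set.mem_iUnion.1 hp
      obtain ⟨c₁, hc₁⟩ := comp_eq_of_mem_range (s k) b (by rw [hbp']; exact h1)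
      obtain ⟨c₂, hc₂⟩ := comp_eq_of_mem_range (s k') b (by rw [hbp']; exact h2)
      have hid : ∀ (k : Fin n) (c' : Spec (CommRingCat.of Ω) ⟶ W₁.left), c' ≫ s k = b →
          (e k).1 = b ≫ bW.hom := fun k c' hc' => by
        have : c' = w₁.left := by
          rw [← Category.comp_id c', ← hs₁ k, ← Category.assoc, hc', hb]
        rw [← hc', this, Category.assoc, hs₂, ← congrArg Subtype.val (hk k)]
        rfl
      exact hne (e.injective (Subtype.ext ((hid k c₁ hc₁).trans (hid k' c₂ hc₂).symm)))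
  refine ⟨sub W₁ N, ⟨fibPt w₁, hwN⟩, ?_, ∀ k, M k, inferInstance, inferInstance,
    resSec (subHom W₁ N) τ, fun Ω' _ _ ξ z₀ => ?_⟩
  · show W₁.hom (fibPt w₁) = y
    rw [← hη]
    have h1 : w₁.left ≫ W₁.hom = η := Over.w w₁
    exact congrArg (fun t : Spec (CommRingCat.of Ω) ⟶ Y => t default) h1
  simp only [germ_resSec]
  set z := (Scheme.pointSmallEtale ξ).fiber.map (subHom W₁ N) z₀ with hzdef
  have hzN : fibPt z ∈ N := (z₀.left (default : Spec (CommRingCat.of Ω'))).2
  have hbij : Function.Bijective (zk z) := by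
    constructor
    · intro k k' hkk
      by_contra hne
      refine hzN.1 ⟨s k (fibPt z), Or.inr (Set.mem_iUnion.2 ⟨⟨(k, k'), hne⟩, ⟨_, rfl⟩, fibPt z, ?_⟩), ?_⟩
      · have : z.left ≫ s k' = z.left ≫ s k := by
          refine pullback.hom_ext ?_ ?_
          · exact (Category.assoc _ _ _).trans ((congrArg (z.left ≫ ·) (hs₁ k')).trans
              ((congrArg (z.left ≫ ·) (hs₁ k)).symm.trans (Category.assoc _ _ _).symm))
          · exact (Category.assoc _ _ _).trans ((congrArg (z.left ≫ ·) (hs₂ k')).trans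
              ((congrArg Subtype.val hkk).symm.trans
                ((congrArg (z.left ≫ ·) (hs₂ k)).symm.trans (Category.assoc _ _ _).symm)))
        exact congrArg (fun t : Spec (CommRingCat.of Ω') ⟶ bW.left => t default) this
      · exact congrArg (fun t : W₁.left ⟶ W₁.left => t (fibPt z)) (hs₁ k)
    · intro l
      let p : Spec (CommRingCat.of Ω') ⟶ bW.left :=
        pullback.lift z.left l.1 ((Over.w z).trans l.2.symm)
      have hp₁ : p ≫ fst = z.left := pullback.lift_fst _ _ _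
      have hp₂ : p ≫ bW.hom = l.1 := pullback.lift_snd _ _ _
      have hmem : p default ∈ ⋃ k, Set.range (s k) := by
        by_contra hne
        refine hzN.1 ⟨p default, Or.inl hne, ?_⟩
        exact congrArg (fun t : Spec (CommRingCat.of Ω') ⟶ W₁.left => t default) hp₁
      obtain ⟨k, hk'⟩ := Set.mem_iUnion.1 hmem
      obtain ⟨c', hc'⟩ := comp_eq_of_mem_range (s k) p hk'
      refine ⟨k, Subtype.ext ?_⟩
      show z.left ≫ q k = l.1
      rw [← hp₂, ← hp₁, ← hc', Category.assoc c', hs₁, Category.comp_id, Category.assoc, hs₂]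
      rfl
  have hgerm : ∀ m k, liftStalk f ξ (zk z k) F (germ ξ ((EtCoh.push f).obj F) z (τ m)) =
      germ (zk z k).1 F ((Scheme.pointSmallEtale (zk z k).1).fiber.map (r k) (zf z k)) (σ k (m k)) :=
    fun m k => by
      rw [liftStalk_germ, ← hj z k]
      refine (germ_map _ F (j k) (zf z k) (τ m)).symm.trans (Eq.trans ?_ (germ_map _ F (r k) (zf z k) _))
      exact (mem_agree_iff_germ F (zf z k) _ _).1 (Set.mem_iInter.1 hzN.2 (m, k))
  let E : Fin n ≃ fLifts f ξ := Equiv.ofBijective _ hbij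
  have hΨ : Function.Bijective fun (p : (EtCoh.stalk ξ).obj ((EtCoh.push f).obj F)) (k : Fin n) =>
      liftStalk f ξ (zk z k) F p :=
    (Equiv.piCongrLeft (fun l : fLifts f ξ => ((EtCoh.stalk l.1).obj F : Type (u + 1))) E).symm.bijective.comp
      (bijective_liftStalk f ξ F)
  refine (hΨ.of_comp_iff' _).1 ?_
  have hfun : ((fun (p : (EtCoh.stalk ξ).obj ((EtCoh.push f).obj F)) (k : Fin n) =>
      liftStalk f ξ (zk z k) F p) ∘ fun m => germ ξ ((EtCoh.push f).obj F) z (τ m)) =
      Pi.map fun k m => germ (zk z k).1 F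
        ((Scheme.pointSmallEtale (zk z k).1).fiber.map (r k) (zf z k)) (σ k m) :=
    funext fun m => funext fun k => hgerm m k
  rw [hfun]
  exact Function.Bijective.piMap fun k => hσ k Ω' _ _

theorem flc_push (f : X ⟶ Y) [IsFinite f] [AlgebraicGeometry.Etale f] {F : EtCoh.Ab X}
    (hF : EtCoh.IsFiniteLocallyConstant F) :
    EtCoh.IsFiniteLocallyConstant ((EtCoh.push f).obj F) := by
  choose U u' hu M hM hfin σ hσ using (loc_of_flc hF).push f
  exact ⟨Y, U, fun x => ⟨x, u' x, hu x⟩,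
    fun x => ⟨M x, hM x, hfin x, nonempty_triv_of_alg (hσ x)⟩⟩

end Groth.Agent.LocConst24
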