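import Groth.Agent.Lib.LocConst24.Iff
import Mathlib.CategoryTheory.Sites.LocallyBijective
import Mathlib.CategoryTheory.Sites.ConstantSheaf

/-!
# Constant sheaves are finite locally constant
-/

universe u

set_option maxHeartbeats 400000

open CategoryTheory CategoryTheory.Limits AlgebraicGeometry Opposite
open Groth.Agent.EtSite Groth.Agent.EtStalk

namespace Groth.Agent.LocConst24

variable (X : Scheme.{u}) (M : Type) [AddCommGroup M]

/-- Constant sections of the constant sheaf. -/
noncomputable def constSec (U : X.Etale) : M →+ (EtCoh.const X M).obj.obj (op U) :=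
  ((toSheafify X.smallEtaleTopology ((Functor.const X.Etaleᵒᵖ).obj
    (AddCommGrpCat.of (ULift.{u + 1} M)))).app (op U)).hom.comp AddEquiv.ulift.symm.toAddMonoidHom

theorem constSec_res {U V : X.Etale} (g : V ⟶ U) (m : M) :
    (EtCoh.const X M).obj.map g.op (constSec X M U m) = constSec X M V m :=
  (NatTrans.naturality_apply (toSheafify X.smallEtaleTopology ((Functor.const X.Etaleᵒᵖ).obj
    (AddCommGrpCat.of (ULift.{u + 1} M)))) g.op (ULift.up m)).symm

theorem bijAt_constSec (U : X.Etale) : BijAt (EtCoh.const X M) (constSec X M U) := by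
  intro Ω _ _ ξ x
  let P : X.Etaleᵒᵖ ⥤ AddCommGrpCat.{u + 1} :=
    (Functor.const X.Etaleᵒᵖ).obj (AddCommGrpCat.of (ULift.{u + 1} M))
  let J := X.smallEtaleTopology
  constructor
  · intro m n e
    obtain ⟨V, g, y, -, he⟩ := (germ_eq_iff ξ (EtCoh.const X M) x _ _).1 e
    rw [constSec_res, constSec_res] at he
    have hs := Presheaf.equalizerSieve_mem J (toSheafify J P) (ULift.up m) (ULift.up n) he
    rw [mem_et_iff] at hs
    obtain ⟨W, f, w, hf, -⟩ := hs (fibPt y)
    exact congrArg ULift.down hf
  · intro q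
    obtain ⟨V, x', s, rfl⟩ := germ_surjective ξ (EtCoh.const X M) q
    obtain ⟨W, z, a, b, ha, hb⟩ := exists_common_fib ξ x x'
    have hR := Presheaf.imageSieve_mem J (toSheafify J P) ((EtCoh.const X M).obj.map b.op s)
    obtain ⟨Z, c, ⟨m, hm⟩, z', hz'⟩ := (Scheme.pointSmallEtale ξ).jointly_surjective _ hR z
    refine ⟨m.down, ?_⟩
    show germ ξ _ x (constSec X M U m.down) = germ ξ _ x' s
    rw [← ha, ← hb, ← germ_map, ← germ_map, ← hz', ← germ_map, ← germ_map, constSec_res, constSec_res]
    exact congrArg _ hm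

theorem flc_const [Finite M] : EtCoh.IsFiniteLocallyConstant (EtCoh.const X M) :=
  flc_of_loc fun x => ⟨EtCoh.top X, x, rfl, M, inferInstance, inferInstance,
    constSec X M (EtCoh.top X), bijAt_constSec X M _⟩

end Groth.Agent.LocConst24
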