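import Groth.Agent.Lib.EtStalk.Agree
import Groth.Agent.Lib.EtField24.Coprod
import Groth.Agent.Lib.Weight4.GeomSum
import Mathlib.FieldTheory.IsSepClosed

/-!
# Stalks at geometric points over the same point
-/

universe u

set_option maxHeartbeats 400000

open CategoryTheory CategoryTheory.Limits AlgebraicGeometry Opposite
open Groth.Agent.EtStalk

namespace Groth.Agent.LocConst24

variable {X : Scheme.{u}} {K Ω : Type u} [Field K] [IsSepClosed K] [Field Ω] [IsSepClosed Ω]
  (a : Spec (CommRingCat.of Ω) ⟶ Spec (CommRingCat.of K)) (ξ : Spec (CommRingCat.of K) ⟶ X)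

/-- A point over an extension of separably closed fields comes from the smaller one. -/
theorem exists_fib_factor {V : X.Etale} (x : fib (a ≫ ξ) V) :
    ∃ φ : fib ξ V, a ≫ φ.left = x.left := by
  let xl : Spec (CommRingCat.of Ω) ⟶ V.left := x.left
  let W := pullback V.hom ξ
  let q : W ⟶ Spec (CommRingCat.of K) := pullback.snd V.hom ξ
  haveI : AlgebraicGeometry.Etale V.hom := V.prop
  haveI : AlgebraicGeometry.Etale q := inferInstanceAs (AlgebraicGeometry.Etale (pullback.snd V.hom ξ))
  let p : Spec (CommRingCat.of Ω) ⟶ W := pullback.lift xl a (Over.w x)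
  obtain ⟨ι, L, _, _, _, _, e, he⟩ := Groth.Agent.EtField24.exists_coprod_of_etale q
  obtain ⟨⟨i, z⟩, hz⟩ :=
    (sigmaMk (fun i => Spec (CommRingCat.of (L i)))).surjective (e.inv (p default))
  let j : Spec (CommRingCat.of (L i)) ⟶ W := Sigma.ι (fun i => Spec (CommRingCat.of (L i))) i ≫ e.hom
  have hmem : p default ∈ Set.range j := ⟨z, by
    show (Sigma.ι (fun i => Spec (CommRingCat.of (L i))) i ≫ e.hom) z = _
    rw [Scheme.Hom.comp_apply, ← sigmaMk_mk]
    rw [hz, ← Scheme.Hom.comp_apply, e.inv_hom_id]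
    rfl⟩
  haveI : IsOpenImmersion j := inferInstanceAs (IsOpenImmersion (_ ≫ _))
  have hrange : Set.range p ⊆ Set.range j := by
    rintro _ ⟨b, rfl⟩
    rwa [show b = default from Subsingleton.elim (α := PrimeSpectrum Ω) _ _]
  let c := IsOpenImmersion.lift j p hrange
  have hbij : Function.Bijective (algebraMap K (L i)) :=
    IsSepClosed.algebraMap_bijective K (L i)
  haveI : IsIso (CommRingCat.ofHom (algebraMap K (L i))) :=
    (ConcreteCategory.isIso_iff_bijective _).2 hbij
  have hj : j ≫ q = Spec.map (CommRingCat.ofHom (algebraMap K (L i))) := by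
    rw [Category.assoc]; exact he i
  let s : Spec (CommRingCat.of K) ⟶ W := inv (Spec.map (CommRingCat.ofHom (algebraMap K (L i)))) ≫ j
  have hs : s ≫ q = 𝟙 _ := by
    show (inv (Spec.map (CommRingCat.ofHom (algebraMap K (L i)))) ≫ j) ≫ q = _
    rw [Category.assoc, hj, IsIso.inv_hom_id]
  have hp : a ≫ s = p := by
    have h1 : c ≫ j = p := IsOpenImmersion.lift_fac _ _ _
    have h2 : c ≫ Spec.map (CommRingCat.ofHom (algebraMap K (L i))) = a := by
      rw [← hj, ← Category.assoc, h1]
      exact pullback.lift_snd _ _ _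
    rw [← h1, ← h2, Category.assoc]
    show c ≫ Spec.map _ ≫ inv (Spec.map _) ≫ j = _
    rw [IsIso.hom_inv_id_assoc]
  refine ⟨Over.homMk (s ≫ pullback.fst V.hom ξ) ?_, ?_⟩
  · show (s ≫ pullback.fst V.hom ξ) ≫ V.hom = ξ
    rw [Category.assoc, pullback.condition, ← Category.assoc]
    exact (congrArg (· ≫ ξ) hs).trans (Category.id_comp ξ)
  · show a ≫ s ≫ pullback.fst V.hom ξ = xl
    rw [← Category.assoc, hp]
    exact pullback.lift_fst _ _ _

/-- The morphism of points given by an extension of separably closed fields. -/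
noncomputable def resPoint : Scheme.pointSmallEtale (a ≫ ξ) ⟶ Scheme.pointSmallEtale ξ :=
  ⟨{ app := fun V => ↾fun φ => Over.homMk (a ≫ φ.left)
      ((Category.assoc _ _ _).trans (congrArg (a ≫ ·) (Over.w φ)))
     naturality := fun V W g => by
      ext φ
      exact Over.OverMorphism.ext (Category.assoc _ _ _).symm }⟩

/-- The specialisation map of stalks along an extension of separably closed fields. -/
noncomputable def stalkRes (F : EtCoh.Ab X) :
    (EtCoh.stalk ξ).obj F ⟶ (EtCoh.stalk (a ≫ ξ)).obj F :=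
  (GrothendieckTopology.Point.Hom.sheafFiber (A := AddCommGrpCat.{u + 1}) (resPoint a ξ)).app F

theorem stalkRes_germ (F : EtCoh.Ab X) {V : X.Etale} (φ : fib ξ V) (s : F.obj.obj (op V)) :
    stalkRes a ξ F (germ ξ F φ s) = germ (a ≫ ξ) F ((resPoint a ξ).hom.app V φ) s :=
  ConcreteCategory.congr_hom
    (GrothendieckTopology.Point.toPresheafFiber_presheafFiberDesc _ _ _ V φ) s

theorem bijective_stalkRes (F : EtCoh.Ab X) : Function.Bijective (stalkRes a ξ F) := by
  constructor
  · intro p q hpq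
    obtain ⟨U, x, s, rfl⟩ := germ_surjective ξ F p
    obtain ⟨U', x', t, rfl⟩ := germ_surjective ξ F q
    obtain ⟨⟨W, z⟩, ⟨g, hg⟩, ⟨g', hg'⟩, -⟩ :=
      IsCofilteredOrEmpty.cone_objs (C := (Scheme.pointSmallEtale ξ).fiber.Elements) ⟨U, x⟩ ⟨U', x'⟩
    dsimp at hg hg'
    rw [← hg, ← hg', ← germ_map, ← germ_map] at hpq ⊢
    rw [stalkRes_germ, stalkRes_germ] at hpq
    refine (mem_agree_iff_germ F z _ _).1 ?_
    have h := (mem_agree_iff_germ F ((resPoint a ξ).hom.app W z) _ _).2 hpq
    refine Eq.mp (congrArg (· ∈ _) ?_) h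
    let zl : Spec (CommRingCat.of K) ⟶ W.left := z.left
    show (a ≫ zl) default = zl default
    rw [Scheme.Hom.comp_apply]
    exact congrArg zl (Subsingleton.elim (α := PrimeSpectrum K) _ _)
  · intro q
    obtain ⟨U, x, s, rfl⟩ := germ_surjective (a ≫ ξ) F q
    obtain ⟨φ, hφ⟩ := exists_fib_factor a ξ x
    refine ⟨germ ξ F φ s, ?_⟩
    rw [stalkRes_germ]
    exact congrArg (fun y : fib (a ≫ ξ) U => germ (a ≫ ξ) F y s) (Over.OverMorphism.ext hφ)

omit [IsSepClosed K] in
/-- Every geometric point factors through the standard one at its image. -/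
theorem exists_factor_geomPt (η : Spec (CommRingCat.of Ω) ⟶ X) (x : X) (h : η default = x) :
    ∃ b : Spec (CommRingCat.of Ω) ⟶ Spec (CommRingCat.of (SeparableClosure (X.residueField x))),
      b ≫ geomPt X x = η := by
  obtain ⟨e, he⟩ := Groth.Agent.Weight.exists_eq_fieldPt η x
    ((congrArg η (Subsingleton.elim (α := PrimeSpectrum Ω) _ _)).trans h)
  letI : Algebra (X.residueField x) Ω := e.hom.toAlgebra
  let l : SeparableClosure (X.residueField x) →ₐ[X.residueField x] Ω := IsSepClosed.lift
  refine ⟨Spec.map (CommRingCat.ofHom l.toRingHom), ?_⟩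
  rw [← he, geomPt, ← Category.assoc, ← Spec.map_comp]
  show _ = Spec.map e ≫ X.fromSpecResidueField x
  congr 2
  ext r
  exact l.commutes r

theorem natCard_stalk_eq (F : EtCoh.Ab X) (η : Spec (CommRingCat.of Ω) ⟶ X) (x : X)
    (h : η default = x) :
    Nat.card ((EtCoh.stalk η).obj F) = Nat.card ((EtCoh.stalk (geomPt X x)).obj F) := by
  obtain ⟨b, rfl⟩ := exists_factor_geomPt η x h
  exact (Nat.card_eq_of_bijective _ (bijective_stalkRes b (geomPt X x) F)).symm

end Groth.Agent.LocConst24
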