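import Groth.Prelude.Def_EtBase
import Groth.Agent.Lib.EtSite.Sheaf
import Groth.Agent.Lib.EtStalk.Topological

/-!
# Trivialisations of locally constant sheaves
-/

universe u

set_option maxHeartbeats 400000

open CategoryTheory CategoryTheory.Limits AlgebraicGeometry Opposite

namespace Groth.Agent.LocConst24

open Groth.Agent.EtSite

variable {X : Scheme.{u}} (F : EtCoh.Ab X) (U : X.Etale) (M : Type) [AddCommGroup M]

/-- A trivialisation. -/
abbrev Triv := EtCoh.restr F U ≅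
  (constantSheaf (X.smallEtaleTopology.over U) AddCommGrpCat.{u + 1}).obj
    (AddCommGrpCat.of (ULift.{u + 1} M))

variable {F U M} (θ : Triv F U M)

/-- The constant sections of the trivialised sheaf. -/
noncomputable def rho {Z : X.Etale} (a : Z ⟶ U) : ULift.{u + 1} M →+ F.obj.obj (op Z) :=
  ((toSheafify (X.smallEtaleTopology.over U)
      ((Functor.const (Over U)ᵒᵖ).obj (AddCommGrpCat.of (ULift.{u + 1} M))) ≫
    θ.inv.hom).app (op (Over.mk a))).hom

theorem rho_res {Z Z' : X.Etale} (b : Z' ⟶ Z) (a : Z ⟶ U) (m : ULift.{u + 1} M) :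
    F.obj.map b.op (rho θ a m) = rho θ (b ≫ a) m :=
  (ConcreteCategory.congr_hom
    ((toSheafify (X.smallEtaleTopology.over U)
      ((Functor.const (Over U)ᵒᵖ).obj (AddCommGrpCat.of (ULift.{u + 1} M))) ≫
      θ.inv.hom).naturality (Over.homMk b : Over.mk (b ≫ a) ⟶ Over.mk a).op) m).symm

theorem rho_injective {Z : X.Etale} (a : Z ⟶ U) (h : Nonempty Z.left) :
    Function.Injective (rho θ a) := by
  intro m n e
  let η := toSheafify (X.smallEtaleTopology.over U)
      ((Functor.const (Over U)ᵒᵖ).obj (AddCommGrpCat.of (ULift.{u + 1} M)))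
  have e' : η.app (op (Over.mk a)) m = η.app (op (Over.mk a)) n := by
    have h1 := congrArg (θ.hom.hom.app (op (Over.mk a))) e
    have h2 : ∀ x, θ.hom.hom.app (op (Over.mk a)) (θ.inv.hom.app (op (Over.mk a)) x) = x :=
      fun x => ConcreteCategory.congr_hom
        (congrArg (fun t => t.hom.app (op (Over.mk a))) θ.inv_hom_id) x
    exact ((h2 _).symm.trans h1).trans (h2 _)
  obtain ⟨z⟩ := h
  have hc := (X.smallEtaleTopology.mem_over_iff _).1
    (Presheaf.equalizerSieve_mem (X.smallEtaleTopology.over U) η _ _ e')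
  obtain ⟨Y, f, y, ⟨Y', g, f', hg, -⟩, -⟩ := (mem_et_iff Z _).1 hc z
  exact hg

theorem rho_over (O : Over U) (a : O.left ⟶ U) (h : O.hom = a) (m : ULift.{u + 1} M) :
    rho θ a m = (toSheafify (X.smallEtaleTopology.over U)
      ((Functor.const (Over U)ᵒᵖ).obj (AddCommGrpCat.of (ULift.{u + 1} M))) ≫
      θ.inv.hom).app (op O) m := by
  obtain ⟨l, ⟨⟨⟩⟩, w⟩ := O
  subst h
  rfl

theorem exists_rho {Z : X.Etale} (a : Z ⟶ U) (s : F.obj.obj (op Z)) (z : Z.left) :
    ∃ (Z' : X.Etale) (b : Z' ⟶ Z), z ∈ Set.range b.left ∧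
      ∃ m, rho θ (b ≫ a) m = F.obj.map b.op s := by
  let η := toSheafify (X.smallEtaleTopology.over U)
      ((Functor.const (Over U)ᵒᵖ).obj (AddCommGrpCat.of (ULift.{u + 1} M)))
  let t := θ.hom.hom.app (op (Over.mk a)) s
  have hc := (X.smallEtaleTopology.mem_over_iff _).1
    (Presheaf.imageSieve_mem (X.smallEtaleTopology.over U) η t)
  obtain ⟨Y, f, y, ⟨Y', g, f', ⟨m, hm⟩, hf⟩, hy⟩ := (mem_et_iff Z _).1 hc z
  refine ⟨Y'.left, g.left, ⟨f'.left y, ?_⟩, m, ?_⟩
  · exact (congr(($hf).left y)).symm.trans hy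
  · have h1 := congrArg (θ.inv.hom.app (op Y')) hm
    have h2 : θ.inv.hom.app (op Y') (((constantSheaf (X.smallEtaleTopology.over U)
        AddCommGrpCat.{u + 1}).obj (AddCommGrpCat.of (ULift.{u + 1} M))).obj.map g.op t) =
        F.obj.map g.left.op s :=
      (congrArg (θ.inv.hom.app (op Y'))
        (ConcreteCategory.congr_hom (θ.hom.hom.naturality g.op) s).symm).trans
        (ConcreteCategory.congr_hom (congrArg (fun t => t.hom.app (op Y')) θ.hom_inv_id) _)
    exact (rho_over θ Y' _ (Over.w g).symm m).trans (h1.trans h2)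

variable {V : X.Etale} {N : Type} [AddCommGroup N] (φ : Triv F V N)

theorem exists_common [Finite M] {P : X.Etale} (a : P ⟶ U) (c : P ⟶ V) (hP : Nonempty P.left) :
    ∃ (Z : X.Etale) (b : Z ⟶ P), Nonempty Z.left ∧
      ∀ m, ∃ n, rho φ (b ≫ c) n = rho θ (b ≫ a) m := by
  classical
  haveI := Fintype.ofFinite M
  suffices ∀ t : Finset (ULift.{u + 1} M), ∃ (Z : X.Etale) (b : Z ⟶ P), Nonempty Z.left ∧
      ∀ m ∈ t, ∃ n, rho φ (b ≫ c) n = rho θ (b ≫ a) m by
    obtain ⟨Z, b, hZ, h⟩ := this Finset.univ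
    exact ⟨Z, b, hZ, fun m => h m (Finset.mem_univ m)⟩
  intro t
  induction t using Finset.induction_on with
  | empty => exact ⟨P, 𝟙 P, hP, by simp⟩
  | insert m₀ t _ ih =>
    obtain ⟨Z, b, ⟨z⟩, h⟩ := ih
    obtain ⟨Z', d, hd, n, hn⟩ := exists_rho φ (b ≫ c) (rho θ (b ≫ a) m₀) z
    obtain ⟨z', -⟩ := hd
    refine ⟨Z', d ≫ b, ⟨z'⟩, fun m hm => ?_⟩
    rcases Finset.mem_insert.mp hm with rfl | hm
    · exact ⟨n, by rw [Category.assoc, Category.assoc, hn, rho_res]⟩
    · obtain ⟨n', hn'⟩ := h m hm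
      exact ⟨n', by rw [Category.assoc, Category.assoc, ← rho_res, hn', rho_res]⟩

include θ φ in
theorem exists_injective_hom [Finite M] {P : X.Etale} (a : P ⟶ U) (c : P ⟶ V)
    (hP : Nonempty P.left) : ∃ f : M →+ N, Function.Injective f := by
  obtain ⟨Z, b, hZ, h⟩ := exists_common θ φ a c hP
  choose n hn using h
  have hi := rho_injective φ (b ≫ c) hZ
  have hj := rho_injective θ (b ≫ a) hZ
  let f : ULift.{u + 1} M →+ ULift.{u + 1} N :=
    { toFun := n
      map_zero' := hi (by rw [hn, map_zero, map_zero])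
      map_add' := fun x y => hi (by rw [hn, map_add, map_add, hn, hn]) }
  refine ⟨(AddEquiv.ulift.toAddMonoidHom.comp f).comp AddEquiv.ulift.symm.toAddMonoidHom, ?_⟩
  intro x y e
  have e' : n (AddEquiv.ulift.symm x) = n (AddEquiv.ulift.symm y) := AddEquiv.ulift.injective e
  exact AddEquiv.ulift.symm.injective (hj (by rw [← hn, ← hn, e']))

include θ φ in
theorem nonempty_equiv [Finite M] [Finite N] {P : X.Etale} (a : P ⟶ U) (c : P ⟶ V)
    (hP : Nonempty P.left) : Nonempty (M ≃+ N) := by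
  obtain ⟨f, hf⟩ := exists_injective_hom θ φ a c hP
  obtain ⟨g, hg⟩ := exists_injective_hom φ θ c a hP
  exact ⟨AddEquiv.ofBijective f ((Nat.bijective_iff_injective_and_card f).mpr
    ⟨hf, le_antisymm (Nat.card_le_card_of_injective f hf) (Nat.card_le_card_of_injective g hg)⟩)⟩

omit θ φ in
theorem exists_product {U V : X.Etale} {y : U.left} {z : V.left} (h : U.hom y = V.hom z) :
    ∃ (P : X.Etale) (_ : P ⟶ U) (_ : P ⟶ V), Nonempty P.left := by
  let g₁ : U.left ⟶ X := U.hom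
  let g₂ : V.left ⟶ X := V.hom
  haveI : AlgebraicGeometry.Etale g₁ := U.prop
  haveI : AlgebraicGeometry.Etale g₂ := V.prop
  obtain ⟨w, -, -⟩ := Scheme.Pullback.exists_preimage_pullback (f := g₁) (g := g₂) y z h
  exact ⟨Scheme.Etale.mk (pullback.fst g₁ g₂ ≫ g₁), MorphismProperty.Over.homMk (pullback.fst g₁ g₂) rfl,
    MorphismProperty.Over.homMk (pullback.snd g₁ g₂) pullback.condition.symm, ⟨w⟩⟩

theorem single_group [ConnectedSpace X] (h : EtCoh.IsFiniteLocallyConstant F) :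
    ∃ (M : Type) (_ : AddCommGroup M) (_ : Finite M) (ι : Type u) (U : ι → X.Etale), EtCoh.Covers U ∧
      ∀ i, Nonempty (EtCoh.restr F (U i) ≅
        (constantSheaf (X.smallEtaleTopology.over (U i)) AddCommGrpCat.{u + 1}).obj
          (AddCommGrpCat.of (ULift.{u + 1} M))) := by
  obtain ⟨ι, U, hU, h⟩ := h
  choose M hM hfin θ using h
  obtain ⟨x₀⟩ := (inferInstance : Nonempty X)
  obtain ⟨i₀, y₀, hy₀⟩ := hU x₀
  let p : ι → Prop := fun i => Nonempty (M i ≃+ M i₀)
  have hopen : ∀ i, IsOpen (Set.range (U i).hom) := fun i => by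
    let g : (U i).left ⟶ X := (U i).hom
    haveI : AlgebraicGeometry.Etale g := (U i).prop
    exact g.isOpenMap.isOpen_range
  have key : ∀ i j, ¬ p j → p i → Disjoint (Set.range (U i).hom) (Set.range (U j).hom) := by
    intro i j hj hi
    refine Set.disjoint_left.mpr ?_
    rintro _ ⟨y, rfl⟩ ⟨z, hz⟩
    obtain ⟨P, a, c, hP⟩ := exists_product hz
    obtain ⟨e⟩ := nonempty_equiv (θ j).some (θ i).some a c hP
    exact hj ⟨e.trans hi.some⟩
  let A : Set X := ⋃ i : {i // p i}, Set.range (U i.1).hom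
  have hA : A = Set.univ := by
    refine IsClopen.eq_univ ⟨?_, isOpen_iUnion fun i => hopen i.1⟩
      ⟨x₀, Set.mem_iUnion.mpr ⟨⟨i₀, ⟨AddEquiv.refl _⟩⟩, y₀, hy₀⟩⟩
    rw [← isOpen_compl_iff]
    have : Aᶜ = ⋃ i : {i // ¬ p i}, Set.range (U i.1).hom := by
      ext x
      constructor
      · intro hx
        obtain ⟨i, y, hy⟩ := hU x
        exact Set.mem_iUnion.mpr ⟨⟨i, fun hi => hx (Set.mem_iUnion.mpr ⟨⟨i, hi⟩, y, hy⟩)⟩, y, hy⟩
      · rintro hx hxA
        obtain ⟨j, hj⟩ := Set.mem_iUnion.mp hx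
        obtain ⟨i, hi⟩ := Set.mem_iUnion.mp hxA
        exact Set.disjoint_left.mp (key i.1 j.1 j.2 i.2) hi hj
    rw [this]
    exact isOpen_iUnion fun i => hopen i.1
  refine ⟨M i₀, hM i₀, hfin i₀, {i // p i}, fun i => U i.1, fun x => ?_, fun i => ?_⟩
  · obtain ⟨i, y, hy⟩ := Set.mem_iUnion.mp (hA.ge (Set.mem_univ x))
    exact ⟨i, y, hy⟩
  · exact ⟨(θ i.1).some ≪≫ (constantSheaf _ _).mapIso
      ((AddEquiv.ulift.trans i.2.some).trans AddEquiv.ulift.symm).toAddCommGrpIso⟩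

end Groth.Agent.LocConst24
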