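import Groth.Agent.Lib.LocConst24.SpecCriterion
import Groth.Agent.Lib.LocConst24.DescEtale
import Groth.Agent.Lib.Constr24.Agree

/-!
# Constructible sheaves are locally constant near a point iff the specialisation maps are bijective
-/

universe u

set_option maxHeartbeats 400000

open CategoryTheory CategoryTheory.Limits AlgebraicGeometry Opposite Topology
open Groth.Agent.EtSite Groth.Agent.EtStalk Groth.Agent.Constr24

namespace Groth.Agent.LocConst24

variable {X : Scheme.{u}}

theorem flc_near_iff (F : EtCoh.Ab X)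
    (hF : EtPBC.IsConstructible F) (x : X) {Ω : Type u} [Field Ω] [IsSepClosed Ω]
    (ξ : Spec (CommRingCat.of Ω) ⟶ X) (hξ : Set.range ξ.base = {x}) :
    (∃ U : X.Opens, x ∈ U ∧ EtCoh.IsFiniteLocallyConstant ((EtCoh.pull U.ι).obj F)) ↔
      ∀ (Ω' : Type u) [Field Ω'] [IsSepClosed Ω'] (ξ' : Spec (CommRingCat.of Ω') ⟶ X)
        (φ : Scheme.pointSmallEtale ξ' ⟶ Scheme.pointSmallEtale ξ),
        IsIso ((GrothendieckTopology.Point.Hom.sheafFiber (A := AddCommGrpCat.{u + 1}) φ).app F) := by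
  have hx : ξ default = x := apply_default_of_range ξ hξ
  constructor
  · rintro ⟨U₀, hxU, hl⟩ Ω' _ _ ξ' φ
    obtain ⟨U, w, hw, M, _, _, σ, hσ⟩ :=
      exists_bijAt_of_pull U₀.ι (⟨x, hxU⟩ : U₀.toScheme) rfl (loc_of_flc hl)
    obtain ⟨a, -⟩ := Scheme.pointSmallEtaleFiberObjToPreimage_surjective ξ hx U ⟨w, hw⟩
    have h1 := hσ Ω' ξ' (φ.hom.app U a)
    rw [germ_spec_comp φ rfl σ] at h1
    rw [ConcreteCategory.isIso_iff_bijective]
    exact (Function.Bijective.of_comp_iff _ (hσ Ω ξ a)).1 h1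
  intro h
  classical
  haveI := finite_stalk hF ξ
  obtain ⟨U, a, M, _, hM, σ, hσ⟩ := exists_sec_bij ξ F
  haveI : AlgebraicGeometry.Etale U.hom := U.prop
  haveI := Fintype.ofFinite M
  have hax : U.hom (fibPt a) = x := by
    have h1 : a.left ≫ U.hom = ξ := Over.w a
    exact (congrArg (fun r : Spec (CommRingCat.of Ω) ⟶ X => r default) h1).trans hx
  obtain ⟨O, hO, haO, -⟩ :=
    exists_isAffineOpen_mem_and_subset (U := (⊤ : U.left.Opens)) (x := fibPt a) trivial
  haveI : IsAffine O.toScheme := hO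
  let j : O.toScheme ⟶ X := O.ι ≫ U.hom
  have hF' : EtPBC.IsConstructible ((EtCoh.pull j).obj F) := isConstructible_pull j hF
  let a₀ : O.toScheme := ⟨fibPt a, haO⟩
  let B : M → Set O.toScheme := fun m => O.ι ⁻¹' (agree F (σ m) (σ 0))
  have hB : ∀ m, Topology.IsConstructible (B m) := fun m => by
    have := isConstructible_agree hF' (pullSec j O.ι rfl F (σ m)) (pullSec j O.ι rfl F (σ 0))
    rw [agree_pullSec] at this
    exact this
  let E : Set O.toScheme := (⋂ m ∈ {m : M | m ≠ 0}, (B m)ᶜ) ∩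
    level ((EtCoh.pull j).obj F) (Nat.card M)
  have hE : Topology.IsConstructible E :=
    (IsConstructible.biInter (Set.toFinite _) fun m _ => (hB m).compl).inter
      (isConstructible_level hF' _)
  obtain ⟨W, hW, haW, hWE⟩ := exists_open_subset_of_gen hE a₀ (fun z hz => by
    let ζ := algPt O.toScheme z
    let w : fib (ζ ≫ j) U := Over.homMk (ζ ≫ O.ι) (Category.assoc _ _ _)
    have hw : fibPt w = O.ι z := congrArg O.ι (algPt_default _ z)
    obtain ⟨φ, hφ⟩ := exists_hom_of_specializes a w (by rw [hw]; exact hz.map O.ι.continuous)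
    have hb := (bij_spec_iff φ hφ σ (h _ _ φ)).2 hσ
    refine ⟨Set.mem_iInter₂.2 fun m hm hmB => hm (hb.1 ?_), ?_⟩
    · exact (mem_agree_iff_germ F w _ _).1 (hw ▸ hmB)
    · refine ⟨_, inferInstance, inferInstance, ζ, ?_, ?_⟩
      · rw [range_eq_singleton, algPt_default]
      · exact (Nat.card_eq_of_bijective _
          ((ConcreteCategory.bijective_of_isIso (stalkPull j ζ F)).comp hb)).symm)
  let N : U.left.Opens := ⟨O.ι '' W, O.ι.isOpenEmbedding.isOpenMap _ hW⟩
  have haN : fibPt a ∈ N := ⟨a₀, haW, rfl⟩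
  have hbij : BijAt F (resSec (subHom U N) σ) := by
    intro Ω' _ _ η z₀
    simp only [germ_resSec]
    set z := (Scheme.pointSmallEtale η).fiber.map (subHom U N) z₀
    obtain ⟨y, hyW, hy⟩ := (z₀.left (default : Spec (CommRingCat.of Ω'))).2
    have hy' : O.ι y = fibPt z := hy
    obtain ⟨hyB, Ω₀, _, _, ζ, hζ, hcard⟩ := hWE hyW
    haveI := finite_stalk hF η
    refine (Nat.bijective_iff_injective_and_card _).2 ⟨fun m n e => ?_, ?_⟩
    · by_contra hne
      refine Set.mem_iInter₂.1 hyB (m - n) (sub_ne_zero.2 hne) ?_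
      show O.ι y ∈ agree F (σ (m - n)) (σ 0)
      rw [hy']
      refine (mem_agree_iff_germ F z _ _).2 ?_
      rw [map_sub, map_sub, map_zero, map_zero]
      exact sub_eq_zero.2 e
    · have h1 : η default = j y := by
        have h2 : z.left ≫ U.hom = η := Over.w z
        refine (congrArg (fun r : Spec (CommRingCat.of Ω') ⟶ X => r default) h2).symm.trans ?_
        exact congrArg U.hom hy'.symm
      have h3 : (ζ ≫ j) default = j y := congrArg j (apply_default_of_range ζ hζ)
      rw [natCard_stalk_eq F η (j y) h1, ← natCard_stalk_eq F (ζ ≫ j) (j y) h3, ← hcard]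
      exact (Nat.card_eq_of_bijective _ (ConcreteCategory.bijective_of_isIso (stalkPull j ζ F))).symm
  refine ⟨⟨U.hom '' (N : Set U.left), (U.hom).isOpenMap _ N.2⟩, ⟨fibPt a, haN, hax⟩, ?_⟩
  refine flc_of_loc (loc_pull_of_forall _ fun t => ?_)
  obtain ⟨v, hvN, hv⟩ := t.2
  exact ⟨sub U N, ⟨v, hvN⟩, hv, M, inferInstance, hM, _, hbij⟩

end Groth.Agent.LocConst24
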