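import Groth.Agent.Lib.LocConst24.Basic
import Groth.Agent.Lib.EtStalk.Basic
import Mathlib.Algebra.FiveLemma
import Mathlib.Algebra.Group.Shrink
import Mathlib.Algebra.Homology.ShortComplex.Ab

/-!
# Locally constant sheaves via germs
-/

universe u

set_option maxHeartbeats 400000

open CategoryTheory CategoryTheory.Limits AlgebraicGeometry Opposite
open Groth.Agent.EtSite Groth.Agent.EtStalk

namespace Groth.Agent.LocConst24

variable {X : Scheme.{u}} (F : EtCoh.Ab X)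

/-- Constant sections which give all stalks over an étale `X`-scheme, bijectively. -/
def BijAt {U : X.Etale} {M : Type} [AddCommGroup M] (σ : M →+ F.obj.obj (op U)) : Prop :=
  ∀ (Ω : Type u) [Field Ω] [IsSepClosed Ω] (ξ : Spec (CommRingCat.of Ω) ⟶ X) (x : fib ξ U),
    Function.Bijective fun m => germ ξ F x (σ m)

/-- Locally constant with finite stalks, read on germs. -/
def Loc : Prop :=
  ∀ x : X, ∃ (U : X.Etale) (u : U.left), U.hom u = x ∧
    ∃ (M : Type) (_ : AddCommGroup M) (_ : Finite M) (σ : M →+ F.obj.obj (op U)), BijAt F σ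

variable {F}

/-- Restriction of constant sections. -/
noncomputable def resSec {U V : X.Etale} (g : V ⟶ U) {M : Type} [AddCommGroup M]
    (σ : M →+ F.obj.obj (op U)) : M →+ F.obj.obj (op V) :=
  (F.obj.map g.op).hom.comp σ

theorem germ_resSec {U V : X.Etale} (g : V ⟶ U) {M : Type} [AddCommGroup M]
    (σ : M →+ F.obj.obj (op U)) {Ω : Type u} [Field Ω] [IsSepClosed Ω]
    (ξ : Spec (CommRingCat.of Ω) ⟶ X) (y : fib ξ V) (m : M) :
    germ ξ F y (resSec g σ m) = germ ξ F ((Scheme.pointSmallEtale ξ).fiber.map g y) (σ m) :=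
  germ_map ξ F g y (σ m)

theorem BijAt.res {U V : X.Etale} (g : V ⟶ U) {M : Type} [AddCommGroup M]
    {σ : M →+ F.obj.obj (op U)} (h : BijAt F σ) : BijAt F (resSec g σ) := by
  intro Ω _ _ ξ y
  simp only [germ_resSec]
  exact h Ω ξ _

section Point

variable {Ω : Type u} [Field Ω] [IsSepClosed Ω] (ξ : Spec (CommRingCat.of Ω) ⟶ X)

theorem exists_common_fib {U V : X.Etale} (x : fib ξ U) (y : fib ξ V) :
    ∃ (W : X.Etale) (z : fib ξ W) (a : W ⟶ U) (b : W ⟶ V),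
      (Scheme.pointSmallEtale ξ).fiber.map a z = x ∧
        (Scheme.pointSmallEtale ξ).fiber.map b z = y := by
  obtain ⟨⟨W, z⟩, ⟨gV, hgV⟩, ⟨gU, hgU⟩, -⟩ :=
    IsCofilteredOrEmpty.cone_objs (C := (Scheme.pointSmallEtale ξ).fiber.Elements) ⟨U, x⟩ ⟨V, y⟩
  exact ⟨W, z, gV, gU, hgV, hgU⟩

theorem exists_rep {ι : Type*} [Finite ι] {U : X.Etale} (x : fib ξ U)
    (h : ι → (EtCoh.stalk ξ).obj F) :
    ∃ (V : X.Etale) (g : V ⟶ U) (y : fib ξ V) (s : ι → F.obj.obj (op V)),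
      (Scheme.pointSmallEtale ξ).fiber.map g y = x ∧ ∀ i, germ ξ F y (s i) = h i := by
  classical
  haveI := Fintype.ofFinite ι
  suffices ∀ t : Finset ι, ∃ (V : X.Etale) (g : V ⟶ U) (y : fib ξ V),
      (Scheme.pointSmallEtale ξ).fiber.map g y = x ∧ ∀ i ∈ t, ∃ s, germ ξ F y s = h i by
    obtain ⟨V, g, y, hy, hs⟩ := this Finset.univ
    choose s hs using fun i => hs i (Finset.mem_univ i)
    exact ⟨V, g, y, s, hy, hs⟩
  intro t
  induction t using Finset.induction_on with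
  | empty => exact ⟨U, 𝟙 U, x, by simp, by simp⟩
  | insert i₀ t _ ih =>
    obtain ⟨V, g, y, hy, hs⟩ := ih
    obtain ⟨V₀, y₀, s₀, hs₀⟩ := germ_surjective ξ F (h i₀)
    obtain ⟨W, z, a, b, ha, hb⟩ := exists_common_fib ξ y y₀
    refine ⟨W, a ≫ g, z, ?_, fun i hi => ?_⟩
    · rw [Functor.map_comp, ConcreteCategory.comp_apply, ha, hy]
    · rcases Finset.mem_insert.mp hi with rfl | hi
      · exact ⟨F.obj.map b.op s₀, by rw [germ_map, hb, hs₀]⟩
      · obtain ⟨s, hs⟩ := hs i hi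
        exact ⟨F.obj.map a.op s, by rw [germ_map, ha, hs]⟩

theorem exists_nhd_eq {ι : Type*} [Finite ι] {U : X.Etale} (x : fib ξ U)
    (s t : ι → F.obj.obj (op U)) (h : ∀ i, germ ξ F x (s i) = germ ξ F x (t i)) :
    ∃ (V : X.Etale) (g : V ⟶ U) (y : fib ξ V),
      (Scheme.pointSmallEtale ξ).fiber.map g y = x ∧ ∀ i, F.obj.map g.op (s i) = F.obj.map g.op (t i) := by
  classical
  haveI := Fintype.ofFinite ι
  suffices ∀ S : Finset ι, ∃ (V : X.Etale) (g : V ⟶ U) (y : fib ξ V),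
      (Scheme.pointSmallEtale ξ).fiber.map g y = x ∧
        ∀ i ∈ S, F.obj.map g.op (s i) = F.obj.map g.op (t i) by
    obtain ⟨V, g, y, hy, hs⟩ := this Finset.univ
    exact ⟨V, g, y, hy, fun i => hs i (Finset.mem_univ i)⟩
  intro S
  induction S using Finset.induction_on with
  | empty => exact ⟨U, 𝟙 U, x, by simp, by simp⟩
  | insert i₀ S _ ih =>
    obtain ⟨V, g, y, hy, hs⟩ := ih
    have e : germ ξ F y (F.obj.map g.op (s i₀)) = germ ξ F y (F.obj.map g.op (t i₀)) := by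
      rw [germ_map, germ_map, hy, h]
    obtain ⟨W, g', z, hz, he⟩ := (germ_eq_iff ξ F y _ _).1 e
    refine ⟨W, g' ≫ g, z, ?_, fun i hi => ?_⟩
    · rw [Functor.map_comp, ConcreteCategory.comp_apply, hz, hy]
    · rcases Finset.mem_insert.mp hi with rfl | hi
      · rw [op_comp, F.obj.map_comp, ConcreteCategory.comp_apply, ConcreteCategory.comp_apply, he]
      · rw [op_comp, F.obj.map_comp, ConcreteCategory.comp_apply, ConcreteCategory.comp_apply, hs i hi]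

theorem exists_lift_hom {M : Type} [AddCommGroup M] [Finite M] {U : X.Etale} (x : fib ξ U)
    (h : M →+ (EtCoh.stalk ξ).obj F) :
    ∃ (V : X.Etale) (g : V ⟶ U) (y : fib ξ V) (σ : M →+ F.obj.obj (op V)),
      (Scheme.pointSmallEtale ξ).fiber.map g y = x ∧ ∀ m, germ ξ F y (σ m) = h m := by
  obtain ⟨V, g, y, s, hy, hs⟩ := exists_rep ξ x h
  obtain ⟨W, g', z, hz, he⟩ := exists_nhd_eq ξ y (fun p : M × M => s (p.1 + p.2))
    (fun p => s p.1 + s p.2) (fun p => by rw [map_add, hs, hs, hs, map_add])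
  refine ⟨W, g' ≫ g, z, AddMonoidHom.mk' (fun m => F.obj.map g'.op (s m))
    (fun m n => (he (m, n)).trans (map_add _ _ _)), ?_, fun m => ?_⟩
  · rw [Functor.map_comp, ConcreteCategory.comp_apply, hz, hy]
  · exact (germ_map ξ F g' z (s m)).trans (by rw [hz, hs])

theorem exists_nhd_comm {G : EtCoh.Ab X} (a : F ⟶ G) {M N : Type} [AddCommGroup M] [Finite M]
    [AddCommGroup N] {U : X.Etale} (x : fib ξ U) (σ : M →+ F.obj.obj (op U))
    (τ : N →+ G.obj.obj (op U)) (f : M →+ N)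
    (h : ∀ m, (EtCoh.stalk ξ).map a (germ ξ F x (σ m)) = germ ξ G x (τ (f m))) :
    ∃ (V : X.Etale) (g : V ⟶ U) (y : fib ξ V), (Scheme.pointSmallEtale ξ).fiber.map g y = x ∧
      ∀ (Ω' : Type u) [Field Ω'] [IsSepClosed Ω'] (ξ' : Spec (CommRingCat.of Ω') ⟶ X)
        (z : fib ξ' V) (m : M),
        (EtCoh.stalk ξ').map a (germ ξ' F z (resSec g σ m)) =
          germ ξ' G z (resSec g τ (f m)) := by
  obtain ⟨V, g, y, hy, he⟩ := exists_nhd_eq ξ x (fun m => a.hom.app (op U) (σ m))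
    (fun m => τ (f m)) (fun m => (germ_nat ξ a x (σ m)).symm.trans (h m))
  refine ⟨V, g, y, hy, fun Ω' _ _ ξ' z m => ?_⟩
  rw [germ_nat]
  exact congrArg (germ ξ' G z) ((NatTrans.naturality_apply a.hom g.op (σ m)).trans (he m))

end Point

theorem BijAt.injective_app {U : X.Etale} {M : Type} [AddCommGroup M]
    {σ : M →+ F.obj.obj (op U)} (h : BijAt F σ) (hU : Nonempty U.left) :
    Function.Injective σ := by
  obtain ⟨u₀⟩ := hU
  obtain ⟨x, -⟩ := exists_fib U u₀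
  exact fun m n e => (h _ _ x).1 (congrArg (germ _ F x) e)

theorem Loc.of_exact₅ {A B C D E : EtCoh.Ab X} (a : A ⟶ B) (b : B ⟶ C) (c : C ⟶ D) (d : D ⟶ E)
    (hB : ∀ (Ω : Type u) [Field Ω] [IsSepClosed Ω] (ξ : Spec (CommRingCat.of Ω) ⟶ X),
      Function.Exact ((EtCoh.stalk ξ).map a) ((EtCoh.stalk ξ).map b))
    (hC : ∀ (Ω : Type u) [Field Ω] [IsSepClosed Ω] (ξ : Spec (CommRingCat.of Ω) ⟶ X),
      Function.Exact ((EtCoh.stalk ξ).map b) ((EtCoh.stalk ξ).map c))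
    (hD : ∀ (Ω : Type u) [Field Ω] [IsSepClosed Ω] (ξ : Spec (CommRingCat.of Ω) ⟶ X),
      Function.Exact ((EtCoh.stalk ξ).map c) ((EtCoh.stalk ξ).map d))
    (hlA : Loc A) (hlB : Loc B) (hlD : Loc D) (hlE : Loc E) : Loc C := by
  intro p
  obtain ⟨UA, uA, huA, MA, _, _, σA, hσA⟩ := hlA p
  obtain ⟨UB, uB, huB, MB, _, _, σB, hσB⟩ := hlB p
  obtain ⟨UD, uD, huD, MD, _, _, σD, hσD⟩ := hlD p
  obtain ⟨UE, uE, huE, ME, _, _, σE, hσE⟩ := hlE p
  let ξ := geomPt X p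
  have hfib : ∀ (U : X.Etale) (u' : U.left), U.hom u' = p → Nonempty (fib ξ U) := fun U u' h => by
    subst h; exact ⟨(exists_fib U u').choose⟩
  obtain ⟨xA⟩ := hfib UA uA huA
  obtain ⟨xB⟩ := hfib UB uB huB
  obtain ⟨xD⟩ := hfib UD uD huD
  obtain ⟨xE⟩ := hfib UE uE huE
  obtain ⟨W₁, z₁, gA, gB, hzA, hzB⟩ := exists_common_fib ξ xA xB
  obtain ⟨W₂, z₂, gD, gE, hzD, hzE⟩ := exists_common_fib ξ xD xE
  obtain ⟨W, z, g₁, g₂, hz₁, hz₂⟩ := exists_common_fib ξ z₁ z₂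
  -- the constant sections on `W`
  let τA := resSec (g₁ ≫ gA) σA
  let τB := resSec (g₁ ≫ gB) σB
  let τD := resSec (g₂ ≫ gD) σD
  let τE := resSec (g₂ ≫ gE) σE
  have bA : BijAt A τA := hσA.res _
  have bB : BijAt B τB := hσB.res _
  have bD : BijAt D τD := hσD.res _
  have bE : BijAt E τE := hσE.res _
  let eA : MA ≃+ (EtCoh.stalk ξ).obj A := AddEquiv.ofBijective ((germ ξ A z).hom.comp τA) (bA _ ξ z)
  let eB : MB ≃+ (EtCoh.stalk ξ).obj B := AddEquiv.ofBijective ((germ ξ B z).hom.comp τB) (bB _ ξ z)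
  let eD : MD ≃+ (EtCoh.stalk ξ).obj D := AddEquiv.ofBijective ((germ ξ D z).hom.comp τD) (bD _ ξ z)
  let eE : ME ≃+ (EtCoh.stalk ξ).obj E := AddEquiv.ofBijective ((germ ξ E z).hom.comp τE) (bE _ ξ z)
  let sb := ((EtCoh.stalk ξ).map b).hom
  let sc := ((EtCoh.stalk ξ).map c).hom
  haveI : Finite ((EtCoh.stalk ξ).obj B) := Finite.of_equiv _ eB.toEquiv
  haveI : Finite ((EtCoh.stalk ξ).obj D) := Finite.of_equiv _ eD.toEquiv
  haveI hkfin : Finite sc.ker := by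
    refine Finite.of_surjective (fun y : (EtCoh.stalk ξ).obj B =>
      (⟨sb y, (hC _ ξ (sb y)).2 ⟨y, rfl⟩⟩ : sc.ker)) fun ⟨q, hq⟩ => ?_
    obtain ⟨y, hy⟩ := (hC _ ξ q).1 hq
    exact ⟨y, Subtype.ext hy⟩
  haveI : Finite ((EtCoh.stalk ξ).obj C) := by
    haveI : Finite ((EtCoh.stalk ξ).obj C ⧸ sc.ker) :=
      Finite.of_injective _ (QuotientAddGroup.kerLift_injective sc)
    exact Finite.of_equiv _ (AddSubgroup.addGroupEquivQuotientProdAddSubgroup (s := sc.ker)).symm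
  haveI : Countable ((EtCoh.stalk ξ).obj C) := Finite.to_countable
  let eC : Shrink.{0} ((EtCoh.stalk ξ).obj C) ≃+ (EtCoh.stalk ξ).obj C := Shrink.addEquiv
  haveI : Finite (Shrink.{0} ((EtCoh.stalk ξ).obj C)) := Finite.of_equiv _ eC.symm.toEquiv
  obtain ⟨V₁, k₁, y₁, τC, hy₁, hτC⟩ := exists_lift_hom ξ z eC.toAddMonoidHom
  let fa : MA →+ MB := eB.symm.toAddMonoidHom.comp (((EtCoh.stalk ξ).map a).hom.comp eA.toAddMonoidHom)
  let fb : MB →+ Shrink.{0} ((EtCoh.stalk ξ).obj C) := eC.symm.toAddMonoidHom.comp (sb.comp eB.toAddMonoidHom)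
  let fc : Shrink.{0} ((EtCoh.stalk ξ).obj C) →+ MD := eD.symm.toAddMonoidHom.comp (sc.comp eC.toAddMonoidHom)
  let fd : MD →+ ME := eE.symm.toAddMonoidHom.comp (((EtCoh.stalk ξ).map d).hom.comp eD.toAddMonoidHom)
  have exact' : ∀ {M₁ M₂ M₃ S₁ S₂ S₃ : Type _} [AddCommGroup M₁] [AddCommGroup M₂] [AddCommGroup M₃]
      [AddCommGroup S₁] [AddCommGroup S₂] [AddCommGroup S₃] (e₁ : M₁ ≃+ S₁) (e₂ : M₂ ≃+ S₂)
      (e₃ : M₃ ≃+ S₃) (p₁ : S₁ →+ S₂) (p₂ : S₂ →+ S₃), Function.Exact p₁ p₂ →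
      Function.Exact (fun m => e₂.symm (p₁ (e₁ m))) (fun m => e₃.symm (p₂ (e₂ m))) := by
    intro M₁ M₂ M₃ S₁ S₂ S₃ _ _ _ _ _ _ e₁ e₂ e₃ p₁ p₂ h m
    show e₃.symm (p₂ (e₂ m)) = 0 ↔ _
    rw [AddEquiv.map_eq_zero_iff]
    refine (h (e₂ m)).trans ⟨fun ⟨y, hy⟩ => ⟨e₁.symm y, ?_⟩, fun ⟨y, hy⟩ => ⟨e₁ y, ?_⟩⟩
    · show e₂.symm (p₁ (e₁ (e₁.symm y))) = m
      rw [e₁.apply_symm_apply, hy, e₂.symm_apply_apply]
    · exact e₂.symm.injective (hy.trans (e₂.symm_apply_apply m).symm)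
  have hfB : Function.Exact fa fb := exact' eA eB eC _ _ (hB _ ξ)
  have hfC : Function.Exact fb fc := exact' eB eC eD _ _ (hC _ ξ)
  have hfD : Function.Exact fc fd := exact' eC eD eE _ _ (hD _ ξ)
  have gA' : ∀ m, germ ξ A y₁ (resSec k₁ τA m) = eA m := fun m => by rw [germ_resSec, hy₁]; rfl
  have gB' : ∀ m, germ ξ B y₁ (resSec k₁ τB m) = eB m := fun m => by rw [germ_resSec, hy₁]; rfl
  have gD' : ∀ m, germ ξ D y₁ (resSec k₁ τD m) = eD m := fun m => by rw [germ_resSec, hy₁]; rfl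
  have gE' : ∀ m, germ ξ E y₁ (resSec k₁ τE m) = eE m := fun m => by rw [germ_resSec, hy₁]; rfl
  obtain ⟨V₂, k₂, y₂, hy₂, comA⟩ := exists_nhd_comm ξ a y₁ (resSec k₁ τA) (resSec k₁ τB) fa
    (fun m => by rw [gA', gB']; exact (eB.apply_symm_apply _).symm)
  obtain ⟨V₃, k₃, y₃, hy₃, comB⟩ := exists_nhd_comm ξ b y₂ (resSec k₂ (resSec k₁ τB))
    (resSec k₂ τC) fb (fun m => by
      rw [germ_resSec _ (resSec k₁ τB), germ_resSec _ τC, hy₂, gB', hτC]
      exact (eC.apply_symm_apply _).symm)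
  obtain ⟨V₄, k₄, y₄, hy₄, comC⟩ := exists_nhd_comm ξ c y₃ (resSec k₃ (resSec k₂ τC))
    (resSec k₃ (resSec k₂ (resSec k₁ τD))) fc (fun m => by
      rw [germ_resSec _ (resSec k₂ τC), germ_resSec _ (resSec k₂ (resSec k₁ τD)), hy₃,
        germ_resSec _ τC, germ_resSec _ (resSec k₁ τD), hy₂, gD', hτC]
      exact (eD.apply_symm_apply _).symm)
  obtain ⟨V, k₅, y, hy, comD⟩ := exists_nhd_comm ξ d y₄
    (resSec k₄ (resSec k₃ (resSec k₂ (resSec k₁ τD))))
    (resSec k₄ (resSec k₃ (resSec k₂ (resSec k₁ τE)))) fd (fun m => by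
      simp only [germ_resSec, hy₄, hy₃, hy₂, hy₁]
      exact (eE.apply_symm_apply _).symm)
  refine ⟨V, y.left (default : Spec (CommRingCat.of (SeparableClosure (X.residueField p)))), ?_, Shrink.{0} ((EtCoh.stalk ξ).obj C), inferInstance, inferInstance,
    resSec k₅ (resSec k₄ (resSec k₃ (resSec k₂ τC))), fun Ω _ _ η w => ?_⟩
  · have hw : y.left ≫ V.hom = ξ := Over.w y
    show (y.left ≫ V.hom) (default : Spec (CommRingCat.of (SeparableClosure (X.residueField p)))) = p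
    exact (congrArg (fun t : Spec (CommRingCat.of (SeparableClosure (X.residueField p))) ⟶ X =>
      t default) hw).trans (geomPt_default p)
  let R : ∀ (G : EtCoh.Ab X) {M : Type} [AddCommGroup M], (M →+ G.obj.obj (op V)) →
      (M →+ (EtCoh.stalk η).obj G) := fun G {_} _ σ => (germ η G w).hom.comp σ
  refine AddMonoidHom.bijective_of_surjective_of_bijective_of_bijective_of_injective
    fa fb fc fd ((EtCoh.stalk η).map a).hom ((EtCoh.stalk η).map b).hom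
    ((EtCoh.stalk η).map c).hom ((EtCoh.stalk η).map d).hom
    (R A (resSec k₅ (resSec k₄ (resSec k₃ (resSec k₂ (resSec k₁ τA))))))
    (R B (resSec k₅ (resSec k₄ (resSec k₃ (resSec k₂ (resSec k₁ τB))))))
    (R C (resSec k₅ (resSec k₄ (resSec k₃ (resSec k₂ τC)))))
    (R D (resSec k₅ (resSec k₄ (resSec k₃ (resSec k₂ (resSec k₁ τD))))))
    (R E (resSec k₅ (resSec k₄ (resSec k₃ (resSec k₂ (resSec k₁ τE))))))
    ?_ ?_ ?_ ?_ hfB hfC hfD (hB _ η) (hC _ η) (hD _ η)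
    (((((bA.res k₁).res k₂).res k₃).res k₄).res k₅ _ η w).2
    (((((bB.res k₁).res k₂).res k₃).res k₄).res k₅ _ η w)
    (((((bD.res k₁).res k₂).res k₃).res k₄).res k₅ _ η w)
    (((((bE.res k₁).res k₂).res k₃).res k₄).res k₅ _ η w).1
  · ext m
    show (EtCoh.stalk η).map a (germ η A w _) = germ η B w _
    simp only [germ_resSec]
    simpa only [germ_resSec] using comA Ω η ((Scheme.pointSmallEtale η).fiber.map k₃
      ((Scheme.pointSmallEtale η).fiber.map k₄ ((Scheme.pointSmallEtale η).fiber.map k₅ w))) m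
  · ext m
    show (EtCoh.stalk η).map b (germ η B w _) = germ η C w _
    simp only [germ_resSec]
    simpa only [germ_resSec] using comB Ω η ((Scheme.pointSmallEtale η).fiber.map k₄
      ((Scheme.pointSmallEtale η).fiber.map k₅ w)) m
  · ext m
    show (EtCoh.stalk η).map c (germ η C w _) = germ η D w _
    simp only [germ_resSec]
    simpa only [germ_resSec] using comC Ω η ((Scheme.pointSmallEtale η).fiber.map k₅ w) m
  · ext m
    exact comD Ω η w m

end Groth.Agent.LocConst24
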