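import Groth.Agent.Lib.EtStalk.Push
import Groth.Agent.Lib.EtStalk.FiniteSplit
import Groth.Agent.Lib.LocConst24.GeomPt
import Mathlib.CategoryTheory.CofilteredSystem
import Mathlib.AlgebraicGeometry.Morphisms.UniversallyOpen

/-!
# Existence of specialisation morphisms between geometric points
-/

universe u

set_option maxHeartbeats 400000

open CategoryTheory CategoryTheory.Limits AlgebraicGeometry Opposite
open Groth.Agent.EtStalk

namespace Groth.Agent.LocConst24

variable {X : Scheme.{u}} {K Ω : Type u} [Field K] [IsSepClosed K] [Field Ω] [IsAlgClosed Ω]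

/-- The geometric points generizing a given one form a finite nonempty set. -/
theorem finite_nonempty_generizing (ξ : Spec (CommRingCat.of K) ⟶ X)
    (ξ' : Spec (CommRingCat.of Ω) ⟶ X) (h : ξ' default ⤳ ξ default) (V : X.Etale) (x : fib ξ V) :
    Finite {ψ : fib ξ' V // fibPt ψ ⤳ fibPt x} ∧ Nonempty {ψ : fib ξ' V // fibPt ψ ⤳ fibPt x} := by
  haveI : AlgebraicGeometry.Etale V.hom := V.prop
  have hx : V.hom (fibPt x) = ξ default := by
    have h1 : x.left ≫ V.hom = ξ := Over.w x
    exact congrArg (fun r : Spec (CommRingCat.of K) ⟶ X => r default) h1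
  constructor
  · obtain ⟨A, hA, hxA, -⟩ := exists_isAffineOpen_mem_and_subset (U := (⊤ : X.Opens))
      (x := ξ default) trivial
    obtain ⟨O, hO, hxO, hOA⟩ := exists_isAffineOpen_mem_and_subset (U := V.hom ⁻¹ᵁ A) (x := fibPt x)
      (show V.hom (fibPt x) ∈ A by rw [hx]; exact hxA)
    haveI : IsAffine O.toScheme := hO
    let π : O.toScheme ⟶ X := O.ι ≫ V.hom
    haveI : AlgebraicGeometry.Etale π := inferInstanceAs (AlgebraicGeometry.Etale (O.ι ≫ V.hom))
    haveI : LocallyQuasiFinite π := FiniteSplit.locallyQuasiFinite_of_etale π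
    haveI : IsAffine A.toScheme := hA
    have hsub : π ⁻¹' {Groth.Agent.Weight.pt ξ'} ⊆ π ⁻¹' (A : Set X) := fun z _ => hOA z.2
    have hfinset : (π ⁻¹' {Groth.Agent.Weight.pt ξ'}).Finite := by
      refine IsCompact.finite ?_ (π.isDiscrete_preimage_singleton _)
      let πA : O.toScheme ⟶ A.toScheme := IsOpenImmersion.lift A.ι π (by
        rw [A.range_ι]; rintro _ ⟨z, rfl⟩; exact hOA z.2)
      have hmem : Groth.Agent.Weight.pt ξ' ∈ A := by
        have hh : ξ' default ∈ A := h.mem_open A.2 hxA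
        have e : Groth.Agent.Weight.pt ξ' = ξ' default :=
          congrArg ξ' (Subsingleton.elim (α := PrimeSpectrum Ω) _ _)
        rw [e]; exact hh
      haveI : LocallyQuasiFinite (πA ≫ A.ι) := by rw [IsOpenImmersion.lift_fac]; infer_instance
      haveI : LocallyQuasiFinite πA := LocallyQuasiFinite.of_comp πA A.ι
      have := (πA.finite_preimage_singleton ⟨_, hmem⟩).isCompact
      convert this using 1
      ext z
      show π z = Groth.Agent.Weight.pt ξ' ↔ πA z = ⟨_, hmem⟩
      rw [← A.ι.isOpenEmbedding.injective.eq_iff]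
      rw [← Scheme.Hom.comp_apply, IsOpenImmersion.lift_fac]
      rfl
    haveI := Groth.Agent.Weight.finite_lifts π (fun z => π.quasiFiniteAt z) ξ' hfinset
    have hmemO : ∀ ψ : {ψ : fib ξ' V // fibPt ψ ⤳ fibPt x}, Set.range ψ.1.left ⊆ Set.range O.ι := by
      rintro ⟨ψ, hψ⟩ _ ⟨b, rfl⟩
      let ψl : Spec (CommRingCat.of Ω) ⟶ V.left := ψ.left
      show ψl b ∈ Set.range O.ι
      have eb : ψl b = ψl default := congrArg ψl (Subsingleton.elim (α := PrimeSpectrum Ω) _ _)
      rw [O.range_ι, eb]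
      exact hψ.mem_open O.2 hxO
    refine Finite.of_injective
      (fun ψ => (⟨IsOpenImmersion.lift O.ι ψ.1.left (hmemO ψ), ?_⟩ :
        {a : Spec (CommRingCat.of Ω) ⟶ O.toScheme // a ≫ π = ξ'})) ?_
    · exact (Category.assoc _ _ _).symm.trans ((congrArg (· ≫ V.hom) (IsOpenImmersion.lift_fac _ _ _)).trans
        (Over.w ψ.1))
    · intro ψ ψ' e
      refine Subtype.ext (Over.OverMorphism.ext ?_)
      have e' := congrArg (fun a : {a : Spec (CommRingCat.of Ω) ⟶ O.toScheme // a ≫ π = ξ'} => a.1 ≫ O.ι) e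
      simp only [IsOpenImmersion.lift_fac] at e'
      exact e'
  · obtain ⟨v, hv, hvx⟩ := Flat.generalizingMap V.hom (show ξ' default ⤳ V.hom (fibPt x) by rw [hx]; exact h)
    obtain ⟨ψ, hψ⟩ := Scheme.pointSmallEtaleFiberObjToPreimage_surjective ξ' (s₀ := ξ' default) rfl V ⟨v, hvx⟩
    refine ⟨⟨ψ, ?_⟩⟩
    have : fibPt ψ = v := congrArg Subtype.val hψ
    rw [this]
    exact hv

/-- A specialisation of points gives a morphism of geometric points. -/
theorem exists_specialization (ξ : Spec (CommRingCat.of K) ⟶ X) (ξ' : Spec (CommRingCat.of Ω) ⟶ X)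
    (h : ξ' default ⤳ ξ default) :
    ∃ φ : Scheme.pointSmallEtale ξ' ⟶ Scheme.pointSmallEtale ξ,
      ∀ (V : X.Etale) (x : fib ξ V), fibPt (φ.hom.app V x) ⤳ fibPt x := by
  have hmap : ∀ {A B : X.Etale} (g : A ⟶ B) (x : fib ξ A) (ψ : fib ξ' A), fibPt ψ ⤳ fibPt x →
      fibPt ((Scheme.pointSmallEtale ξ').fiber.map g ψ) ⤳ fibPt ((Scheme.pointSmallEtale ξ).fiber.map g x) :=
    fun g x ψ hψ => hψ.map g.left.continuous
  let G : (Scheme.pointSmallEtale ξ).fiber.Elements ⥤ Type u :=
    { obj := fun p => {ψ : fib ξ' p.1 // fibPt ψ ⤳ fibPt (U := p.1) p.2}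
      map := fun {p q} g => ↾fun ψ => ⟨(Scheme.pointSmallEtale ξ').fiber.map g.1 ψ.1, by
        have := hmap g.1 p.2 ψ.1 ψ.2
        rwa [g.2] at this⟩
      map_id := fun p => by
        ext ψ
        exact congrArg (fun f => f ψ.1) ((Scheme.pointSmallEtale ξ').fiber.map_id p.1)
      map_comp := fun {p q r} g g' => by
        ext ψ
        exact congrArg (fun f => f ψ.1) ((Scheme.pointSmallEtale ξ').fiber.map_comp g.1 g'.1) }
  haveI : ∀ p, Finite (G.obj p) := fun p => (finite_nonempty_generizing ξ ξ' h p.1 p.2).1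
  haveI : ∀ p, Nonempty (G.obj p) := fun p => (finite_nonempty_generizing ξ ξ' h p.1 p.2).2
  obtain ⟨s, hs⟩ := nonempty_sections_of_finite_cofiltered_system G
  refine ⟨⟨{ app := fun V => ↾fun x => (s ⟨V, x⟩).1, naturality := fun V W g => ?_ }⟩,
    fun V x => (s ⟨V, x⟩).2⟩
  ext x
  exact (congrArg Subtype.val (hs (CategoryOfElements.homMk
    (⟨V, x⟩ : (Scheme.pointSmallEtale ξ).fiber.Elements) ⟨W, (Scheme.pointSmallEtale ξ).fiber.map g x⟩ g rfl))).symm

/-- A specialisation in an étale scheme gives a morphism of geometric points of the base mapping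
the one point to the other. -/
theorem exists_specialization_at (U : X.Etale) (ζ : Spec (CommRingCat.of K) ⟶ U.left)
    (ζ' : Spec (CommRingCat.of Ω) ⟶ U.left) (h : ζ' default ⤳ ζ default) :
    ∃ φ : Scheme.pointSmallEtale (ζ' ≫ U.hom) ⟶ Scheme.pointSmallEtale (ζ ≫ U.hom),
      φ.hom.app U (Over.homMk ζ rfl) = Over.homMk ζ' rfl := by
  haveI : AlgebraicGeometry.Etale U.hom := U.prop
  obtain ⟨τ, -⟩ := exists_specialization ζ ζ' h
  let Δ : EtCoh.top U.left ⟶ (EtCoh.bc U.hom).obj U :=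
    MorphismProperty.Over.homMk (pullback.lift (𝟙 U.left) (𝟙 U.left) rfl) (pullback.lift_snd _ _ _)
  refine ⟨⟨{ app := fun V => ↾fun x => dropFib U.hom ζ' (τ.hom.app _ (liftFib U.hom ζ x))
             naturality := fun V W g => ?_ }⟩, ?_⟩
  · ext x
    show dropFib U.hom ζ' (τ.hom.app _ (liftFib U.hom ζ ((Scheme.pointSmallEtale (ζ ≫ U.hom)).fiber.map g x))) =
      (Scheme.pointSmallEtale (ζ' ≫ U.hom)).fiber.map g
        (dropFib U.hom ζ' (τ.hom.app _ (liftFib U.hom ζ x)))
    rw [liftFib_map, NatTrans.naturality_apply τ.hom]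
    refine Over.OverMorphism.ext ?_
    exact (Category.assoc _ _ _).trans
      ((congrArg (_ ≫ ·) (pullback.lift_fst _ _ _)).trans (Category.assoc _ _ _).symm)
  · show dropFib U.hom ζ' (τ.hom.app _ (liftFib U.hom ζ (Over.homMk ζ rfl))) = _
    let x₀ : fib ζ (EtCoh.top U.left) := Over.homMk ζ (Category.comp_id _)
    have e : liftFib U.hom ζ (Over.homMk ζ rfl) = (Scheme.pointSmallEtale ζ).fiber.map Δ x₀ := by
      refine Over.OverMorphism.ext (pullback.hom_ext ?_ ?_)
      · refine (pullback.lift_fst _ _ _).trans ?_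
        exact ((Category.assoc _ _ _).trans ((congrArg (ζ ≫ ·) (pullback.lift_fst _ _ _)).trans
          (Category.comp_id _))).symm
      · refine (pullback.lift_snd _ _ _).trans ?_
        exact ((Category.assoc _ _ _).trans ((congrArg (ζ ≫ ·) (pullback.lift_snd _ _ _)).trans
          (Category.comp_id _))).symm
    rw [e, NatTrans.naturality_apply τ.hom]
    refine Over.OverMorphism.ext ?_
    have ht : (τ.hom.app _ x₀).left = ζ' := (Category.comp_id _).symm.trans (Over.w (τ.hom.app _ x₀))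
    refine (Category.assoc _ _ _).trans ((congrArg (_ ≫ ·) (pullback.lift_fst _ _ _)).trans ?_)
    exact (Category.comp_id _).trans ht

theorem sheafFiber_germ {Φ' Φ : Type u} [Field Φ'] [IsSepClosed Φ'] [Field Φ] [IsSepClosed Φ]
    {ξ' : Spec (CommRingCat.of Φ') ⟶ X} {ξ : Spec (CommRingCat.of Φ) ⟶ X}
    (φ : Scheme.pointSmallEtale ξ' ⟶ Scheme.pointSmallEtale ξ) (F : EtCoh.Ab X) {V : X.Etale}
    (x : fib ξ V) (s : F.obj.obj (op V)) :
    (GrothendieckTopology.Point.Hom.sheafFiber (A := AddCommGrpCat.{u + 1}) φ).app F (germ ξ F x s) =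
      germ ξ' F (φ.hom.app V x) s :=
  ConcreteCategory.congr_hom
    (GrothendieckTopology.Point.toPresheafFiber_presheafFiberDesc _ _ _ V x) s

end Groth.Agent.LocConst24
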